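import Groth.Agent.LoccohB.TenCx
import Groth.Prelude.Def_DTen2

/-!
# The associator and braiding of complexes of modules on elements

`assoc_tmk`, `braid_tmk`, `hom_ext₃`.
-/

set_option autoImplicit false

universe u

open CategoryTheory CategoryTheory.Limits MonoidalCategory CochainComplex CochainComplex.HomComplex

attribute [local instance] HasDerivedCategory.standard

namespace K785.Assoc

open DTen Groth.Agent.LoccohB Groth.Agent.LoccohB.TenCx

variable {A : Type u} [CommRing A]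

/-- the associator of complexes on summands -/
lemma tι_associator (K L M : DRing.Cx A) (p q r pq qr n : ℤ) (h₁ : p + q = pq) (h₂ : pq + r = n)
    (h₃ : q + r = qr) (h₄ : p + qr = n) :
    (tι K L p q pq h₁ ▷ M.X r) ≫ tι (K ⊗ L : DRing.Cx A) M pq r n h₂ ≫ (α_ K L M).hom.f n =
      (α_ (K.X p) (L.X q) (M.X r)).hom ≫ (K.X p ◁ tι L M q r qr h₃) ≫
        tι K (L ⊗ M : DRing.Cx A) p qr n h₄ := by
  have e1 := HomologicalComplex.mapBifunctor₁₂.ι_eq (curriedTensor (ModuleCat.{u} A))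
    (curriedTensor (ModuleCat.{u} A)) K L M (ComplexShape.up ℤ) (ComplexShape.up ℤ) p q r pq n h₁ h₂
  have e2 := HomologicalComplex.mapBifunctor₂₃.ι_eq (curriedTensor (ModuleCat.{u} A))
    (curriedTensor (ModuleCat.{u} A)) K L M (ComplexShape.up ℤ) (ComplexShape.up ℤ)
    (ComplexShape.up ℤ) p q r qr n h₃ h₄
  have e3 := HomologicalComplex.ι_mapBifunctorAssociatorX_hom
    (curriedAssociatorNatIso (ModuleCat.{u} A)) K L M (ComplexShape.up ℤ) (ComplexShape.up ℤ)
    (ComplexShape.up ℤ) p q r n (by rw [← h₂, ← h₁]; rfl)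
  rw [e1, e2] at e3
  exact (Category.assoc _ _ _).symm.trans e3

/-- the associator of complexes on elements -/
lemma assoc_tmk (K L M : DRing.Cx A) (p q r pq qr n : ℤ) (h₁ : p + q = pq) (h₂ : pq + r = n)
    (h₃ : q + r = qr) (h₄ : p + qr = n) (x : K.X p) (y : L.X q) (z : M.X r) :
    ((α_ K L M).hom.f n).hom (tmk (K ⊗ L : DRing.Cx A) M pq r n h₂ (tmk K L p q pq h₁ x y) z) =
      tmk K (L ⊗ M : DRing.Cx A) p qr n h₄ x (tmk L M q r qr h₃ y z) :=
  congr($(tι_associator K L M p q r pq qr n h₁ h₂ h₃ h₄).hom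
    (TensorProduct.tmul A (TensorProduct.tmul A x y) z))

/-- the inverse of the associator of complexes on elements -/
lemma assoc_inv_tmk (K L M : DRing.Cx A) (p q r pq qr n : ℤ) (h₁ : p + q = pq) (h₂ : pq + r = n)
    (h₃ : q + r = qr) (h₄ : p + qr = n) (x : K.X p) (y : L.X q) (z : M.X r) :
    ((α_ K L M).inv.f n).hom (tmk K (L ⊗ M : DRing.Cx A) p qr n h₄ x (tmk L M q r qr h₃ y z)) =
      tmk (K ⊗ L : DRing.Cx A) M pq r n h₂ (tmk K L p q pq h₁ x y) z := by
  rw [← assoc_tmk K L M p q r pq qr n h₁ h₂ h₃ h₄ x y z]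
  have := HomologicalComplex.congr_hom (α_ K L M).hom_inv_id n
  exact congr($(this).hom (tmk (K ⊗ L : DRing.Cx A) M pq r n h₂ (tmk K L p q pq h₁ x y) z))

/-- the braiding of complexes on elements -/
lemma braid_tmk (K L : DRing.Cx A) (p q n : ℤ) (h : p + q = n) (x : K.X p) (y : L.X q) :
    ((braidCx K L).hom.f n).hom (tmk K L p q n h x y) =
      (p * q).negOnePow • tmk L K q p n (by omega) y x := by
  have e := ι_braidCx_hom K L p q n h
  exact congr($(e).hom (TensorProduct.tmul A x y))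

/-- two maps out of `(K ⊗ L) ⊗ M` agree if they agree on triple tensors. -/
lemma hom_ext₃ {K L M : DRing.Cx A} {n : ℤ} {N : ModuleCat.{u} A}
    {f g : ((K ⊗ L : DRing.Cx A) ⊗ M : DRing.Cx A).X n ⟶ N}
    (h : ∀ (p q r pq : ℤ) (h₁ : p + q = pq) (h₂ : pq + r = n) (x : K.X p) (y : L.X q) (z : M.X r),
      f.hom (tmk (K ⊗ L : DRing.Cx A) M pq r n h₂ (tmk K L p q pq h₁ x y) z) =
        g.hom (tmk (K ⊗ L : DRing.Cx A) M pq r n h₂ (tmk K L p q pq h₁ x y) z)) : f = g := by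
  refine hom_ext_tmk fun s r hs w z => ?_
  have key : ModuleCat.ofHom (f.hom ∘ₗ (tmk (K ⊗ L : DRing.Cx A) M s r n hs).flip z) =
      ModuleCat.ofHom (g.hom ∘ₗ (tmk (K ⊗ L : DRing.Cx A) M s r n hs).flip z) :=
    hom_ext_tmk fun p q hpq x y => h p q r s hpq hs x y z
  exact congr($(key).hom w)

/-- two morphisms out of `(K ⊗ L) ⊗ M` agree if they agree on triple tensors. -/
lemma cx_hom_ext₃ {K L M N : DRing.Cx A}
    {f g : ((K ⊗ L : DRing.Cx A) ⊗ M : DRing.Cx A) ⟶ N}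
    (h : ∀ (p q r pq n : ℤ) (h₁ : p + q = pq) (h₂ : pq + r = n) (x : K.X p) (y : L.X q)
      (z : M.X r), (f.f n).hom (tmk (K ⊗ L : DRing.Cx A) M pq r n h₂ (tmk K L p q pq h₁ x y) z) =
        (g.f n).hom (tmk (K ⊗ L : DRing.Cx A) M pq r n h₂ (tmk K L p q pq h₁ x y) z)) : f = g :=
  HomologicalComplex.hom_ext _ _ fun n => hom_ext₃ fun p q r pq h₁ h₂ x y z =>
    h p q r pq n h₁ h₂ x y z

end K785.Assoc
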