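import Groth.Agent.DTen.K785.SplitAlg
import Groth.Agent.LoccohB.KDer
import Groth.Agent.PerfC.RingPerf

/-!
# A criterion for perfectness of bounded complexes with finite cohomology

`isPerfect`: let `A` be Noetherian, `F` a bounded above complex of finite free modules with
`H^i(F) = 0` for `i < c`. If for every maximal ideal `m` the groups `Hom(F, (A/m)[-j])` vanish for
all sufficiently small `j`, then `F` is perfect.
-/

set_option autoImplicit false
universe u v w

open CategoryTheory CategoryTheory.Limits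

attribute [local instance] HasDerivedCategory.standard

namespace K785.PerfCrit

open DerivedCategory

section Split

variable {A : Type u} [CommRing A]

/-- The ideal of those `a` such that `a • 1_N` extends over `f`. -/
def splitIdeal {N : Type v} {E : Type w} [AddCommGroup N] [Module A N] [AddCommGroup E] [Module A E]
    (f : N →ₗ[A] E) : Ideal A where
  carrier := {a | ∃ r : E →ₗ[A] N, ∀ x, r (f x) = a • x}
  add_mem' := by
    rintro a b ⟨r, hr⟩ ⟨s, hs⟩
    exact ⟨r + s, fun x => by rw [LinearMap.add_apply, hr, hs, add_smul]⟩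
  zero_mem' := ⟨0, fun x => by rw [LinearMap.zero_apply, zero_smul]⟩
  smul_mem' := by
    rintro c a ⟨r, hr⟩
    exact ⟨c • r, fun x => by rw [LinearMap.smul_apply, hr, smul_eq_mul, mul_smul]⟩

lemma mem_splitIdeal {N : Type v} {E : Type w} [AddCommGroup N] [Module A N] [AddCommGroup E]
    [Module A E] {f : N →ₗ[A] E} {a : A} :
    a ∈ splitIdeal f ↔ ∃ r : E →ₗ[A] N, ∀ x, r (f x) = a • x := Iff.rfl

end Split

variable {A : Type u} [CommRing A]

/-- A map `F^j ⟶ k` killed by `d` extends over `d`, if `Hom(F, k[-j]) = 0`. -/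
lemma exists_extend (F : DRing.Cx A) [F.IsKProjective] (k : ModuleCat.{u} A) (j : ℤ)
    (h : Subsingleton (Q.obj F ⟶
      Q.obj ((HomologicalComplex.single (ModuleCat.{u} A) (ComplexShape.up ℤ) j).obj k)))
    (φ : F.X j ⟶ k) (hφ : ∀ i, i + 1 = j → F.d i j ≫ φ = 0) :
    ∃ ψ : F.X (j + 1) ⟶ k, F.d j (j + 1) ≫ ψ = φ := by
  let Φ : F ⟶ (HomologicalComplex.single (ModuleCat.{u} A) (ComplexShape.up ℤ) j).obj k :=
    HomologicalComplex.mkHomToSingle φ (fun i hi => hφ i hi)
  obtain ⟨H⟩ := Groth.Agent.LoccohB.KDer.homotopy_of_Q_map_eq_of_isKProjective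
    (f := Φ) (g := 0) (Subsingleton.elim _ _)
  have h1 := H.comm j
  rw [dNext_eq H.hom (show (ComplexShape.up ℤ).Rel j (j + 1) from rfl),
    prevD_eq H.hom (show (ComplexShape.up ℤ).Rel (j - 1) j by simp),
    HomologicalComplex.single_obj_d, comp_zero, add_zero, HomologicalComplex.zero_f, add_zero] at h1
  refine ⟨H.hom (j + 1) j ≫ (HomologicalComplex.singleObjXSelf (ComplexShape.up ℤ) j k).hom, ?_⟩
  rw [← Category.assoc, ← h1]
  simp only [Φ, HomologicalComplex.mkHomToSingle_f, Category.assoc, Iso.inv_hom_id,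
    Category.comp_id]

/-- The image of `d` in degree `n`. -/
noncomputable abbrev im (F : DRing.Cx A) (n : ℤ) : Submodule A (F.X n) :=
  LinearMap.range (F.d (n - 1) n).hom

lemma exact_of_isZero (F : DRing.Cx A) (n : ℤ) (h : IsZero (F.homology n)) (x : F.X n)
    (hx : (F.d n (n + 1)).hom x = 0) : x ∈ im F n := by
  have h1 : F.ExactAt n := (F.exactAt_iff_isZero_homology n).2 h
  rw [F.exactAt_iff' (n - 1) n (n + 1) (by simp) (by simp), ShortComplex.moduleCat_exact_iff] at h1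
  obtain ⟨y, hy⟩ := h1 x hx
  exact ⟨y, hy⟩

lemma splitIdeal_le (F : DRing.Cx A) (n n' : ℤ) (hn : n' + 1 = n)
    (hF : Module.Projective A (F.X n)) (h : IsZero (F.homology n')) :
    splitIdeal (im F n).subtype ≤ splitIdeal (im F n').subtype := by
  obtain rfl : n' = n - 1 := by omega
  rintro a ⟨r, hr⟩
  obtain ⟨r', hr'⟩ := Module.projective_lifting_property (F.d (n - 1) n).hom.rangeRestrict r
    (LinearMap.surjective_rangeRestrict _)
  let s : F.X (n - 1) →ₗ[A] F.X (n - 1) := a • LinearMap.id - r' ∘ₗ (F.d (n - 1) n).hom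
  have hs : ∀ x, (F.d (n - 1) n).hom (s x) = 0 := by
    intro x
    have h1 : (F.d (n - 1) n).hom (r' ((F.d (n - 1) n).hom x)) =
        ((r ((F.d (n - 1) n).hom x) : im F n) : F.X n) :=
      congrArg Subtype.val (LinearMap.congr_fun hr' ((F.d (n - 1) n).hom x))
    have h2 : r ((F.d (n - 1) n).hom x) = a • (⟨(F.d (n - 1) n).hom x, x, rfl⟩ : im F n) :=
      hr ⟨(F.d (n - 1) n).hom x, x, rfl⟩
    change (F.d (n - 1) n).hom (a • x - r' ((F.d (n - 1) n).hom x)) = 0
    rw [map_sub, map_smul, h1, h2]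
    exact sub_self _
  have hs' : ∀ x, s x ∈ im F (n - 1) := fun x => by
    refine exact_of_isZero F (n - 1) h (s x) ?_
    have e : F.d (n - 1) (n - 1 + 1) = F.d (n - 1) n ≫ eqToHom (by rw [sub_add_cancel]) := by
      have : ∀ (k : ℤ) (hk : n = k), F.d (n - 1) k = F.d (n - 1) n ≫ eqToHom (by rw [hk]) := by
        rintro k rfl
        simp
      exact this _ (by omega)
    rw [e]
    change (eqToHom _ : F.X n ⟶ F.X (n - 1 + 1)).hom ((F.d (n - 1) n).hom (s x)) = 0
    rw [hs, map_zero]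
  refine ⟨s.codRestrict _ hs', ?_⟩
  rintro ⟨x, y, rfl⟩
  refine Subtype.ext ?_
  change a • (F.d (n - 1 - 1) (n - 1)).hom y -
    r' ((F.d (n - 1) n).hom ((F.d (n - 1 - 1) (n - 1)).hom y)) =
    a • (F.d (n - 1 - 1) (n - 1)).hom y
  have : (F.d (n - 1) n).hom ((F.d (n - 1 - 1) (n - 1)).hom y) = 0 :=
    congr(($(F.d_comp_d (n - 1 - 1) (n - 1) n)).hom y)
  rw [this, map_zero, sub_zero]

lemma exists_notMem [IsNoetherianRing A] (F : DRing.Cx A) [F.IsKProjective]
    (hF : DRing.TermwiseFiniteFree F)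
    (m : Ideal A) [m.IsMaximal] (j : ℤ) (h : Subsingleton (Q.obj F ⟶
      Q.obj ((HomologicalComplex.single (ModuleCat.{u} A) (ComplexShape.up ℤ) j).obj
        (ModuleCat.of A (A ⧸ m))))) (n : ℤ) (hn : j + 1 = n) :
    ¬ splitIdeal (im F n).subtype ≤ m := by
  obtain rfl : j = n - 1 := by omega
  have h1 := (hF n).1
  have h2 := (hF n).2
  have h3 := (hF (n - 1)).1
  obtain ⟨a, ha, r, hr⟩ := SplitAlg.exists_smul_extend (im F n).subtype m (by
    intro φ
    obtain ⟨ψ, hψ⟩ := exists_extend F (ModuleCat.of A (A ⧸ m)) (n - 1) h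
      (ModuleCat.ofHom (φ ∘ₗ (F.d (n - 1) n).hom.rangeRestrict)) (fun i _ => by
        ext x
        have : (F.d (n - 1) n).hom.rangeRestrict ((F.d i (n - 1)).hom x) = 0 :=
          Subtype.ext (congr(($(F.d_comp_d i (n - 1) n)).hom x))
        change φ ((F.d (n - 1) n).hom.rangeRestrict ((F.d i (n - 1)).hom x)) = 0
        rw [this, map_zero])
    obtain ⟨ψ', hψ'⟩ : ∃ ψ' : F.X n ⟶ ModuleCat.of A (A ⧸ m), F.d (n - 1) n ≫ ψ' =
        ModuleCat.ofHom (φ ∘ₗ (F.d (n - 1) n).hom.rangeRestrict) := by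
      have : ∀ (k : ℤ) (hk : k = n) (ψ : F.X k ⟶ ModuleCat.of A (A ⧸ m)),
          F.d (n - 1) k ≫ ψ = ModuleCat.ofHom (φ ∘ₗ (F.d (n - 1) n).hom.rangeRestrict) →
          ∃ ψ' : F.X n ⟶ ModuleCat.of A (A ⧸ m), F.d (n - 1) n ≫ ψ' =
            ModuleCat.ofHom (φ ∘ₗ (F.d (n - 1) n).hom.rangeRestrict) := by
        rintro _ rfl ψ hψ
        exact ⟨ψ, hψ⟩
      exact this _ (by omega) ψ hψ
    refine ⟨ψ'.hom, ?_⟩
    ext ⟨x, y, rfl⟩
    exact congr(($hψ').hom y))
  intro hle
  exact ha (hle ⟨r, fun x => LinearMap.congr_fun hr x⟩)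

/-- The criterion. -/
theorem isPerfect [IsNoetherianRing A] (F : DRing.Cx A) (hF : DRing.TermwiseFiniteFree F) (b : ℤ)
    (hb : DRing.VanishesAbove F b) (c : ℤ) (hc : ∀ i, i < c → IsZero (F.homology i))
    (h : ∀ (m : Ideal A) [m.IsMaximal], ∃ N : ℤ, ∀ j, j ≤ N → Subsingleton (Q.obj F ⟶
      Q.obj ((HomologicalComplex.single (ModuleCat.{u} A) (ComplexShape.up ℤ) j).obj
        (ModuleCat.of A (A ⧸ m))))) :
    DRing.IsPerfect A (DRing.toD F) := by
  have hF' : DRing.TermwiseFiniteProjective F := fun i => by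
    obtain ⟨h1, h2⟩ := hF i
    exact ⟨h1, inferInstance⟩
  have : F.IsKProjective := Groth.Agent.PerfC.RingPerf.isKProjective hb fun i => (hF' i).2
  let I : ℕ →o Ideal A :=
    { toFun k := splitIdeal (im F (c - k)).subtype
      monotone' := monotone_nat_of_le_succ fun k => by
        refine splitIdeal_le F (c - k) (c - (k + 1 : ℕ)) (by push_cast; omega) (hF' _).2
          (hc _ (by push_cast; omega)) }
  obtain ⟨k₀, hk₀⟩ := monotone_stabilizes_iff_noetherian.2 ‹IsNoetherianRing A› I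
  have htop : I k₀ = ⊤ := by
    by_contra hne
    obtain ⟨m, hm, hle⟩ := Ideal.exists_le_maximal _ hne
    obtain ⟨N, hN⟩ := h m
    let k := max k₀ (c - 1 - N).toNat
    have h1 : I k ≤ m := by
      rw [← hk₀ k (le_max_left _ _)]
      exact hle
    refine exists_notMem F hF m (c - k - 1) (hN _ ?_) (c - k) (by omega) h1
    have h2 : (c - 1 - N).toNat ≤ k := le_max_right _ _
    omega
  obtain ⟨n, hn⟩ : ∃ n : ℤ, n = c - k₀ := ⟨_, rfl⟩
  obtain ⟨r, hr⟩ : (1 : A) ∈ splitIdeal (im F n).subtype := by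
    rw [hn]
    change (1 : A) ∈ I k₀
    rw [htop]
    exact Submodule.mem_top
  refine Groth.Agent.PerfC.RingPerf.isPerfect_of_opcycles F n b hb hF'
    (fun i hi => hc i (by omega)) (Groth.Agent.PerfC.RingPerf.opcycles_of_section F n hF' ?_)
  let e : F.X n ⟶ F.X n := 𝟙 _ - ModuleCat.ofHom ((im F n).subtype ∘ₗ r)
  have he : F.d (n - 1) n ≫ e = 0 := by
    ext x
    have h1 := hr ⟨(F.d (n - 1) n).hom x, x, rfl⟩
    change (F.d (n - 1) n).hom x - ((r ((F.d (n - 1) n).hom x) : im F n) : F.X n) = 0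
    have h2 : r ((F.d (n - 1) n).hom x) = (⟨(F.d (n - 1) n).hom x, x, rfl⟩ : im F n) :=
      h1.trans (one_smul _ _)
    rw [h2]
    exact sub_self _
  refine ⟨F.descOpcycles e (n - 1) (by simp) he, ?_⟩
  rw [← cancel_epi (F.pOpcycles n), F.p_descOpcycles_assoc, Category.comp_id]
  change (𝟙 _ - ModuleCat.ofHom ((im F n).subtype ∘ₗ r)) ≫ F.pOpcycles n = _
  rw [Preadditive.sub_comp, Category.id_comp, sub_eq_self]
  ext x
  obtain ⟨y, hy⟩ := (r x).2
  change (F.pOpcycles n).hom ((r x : im F n) : F.X n) = 0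
  rw [← hy]
  exact congr(($(F.d_pOpcycles (n - 1) n)).hom y)

end K785.PerfCrit
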