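import Groth.Agent.DTen.K785.InvCrit
import Groth.Agent.DTen.K785.PerfCrit
import Groth.Agent.LoccohB.DBase3
import Groth.Agent.LoccohB.HomBC2
import Groth.Agent.LoccohB.PCNoeth
import Mathlib.Algebra.Homology.DerivedCategory.FullyFaithful
import Mathlib.Algebra.Homology.DerivedCategory.Linear

/-!
# Autoequivalences of `D^b_coh(A)` send `A` to an invertible object
-/

set_option autoImplicit false
universe u

open CategoryTheory CategoryTheory.Limits MonoidalCategory

attribute [local instance] HasDerivedCategory.standard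

namespace K785.AutoEq

open DTen DerivedCategory

variable {A : Type u} [CommRing A]

/-- `End(A[0]) = A`. -/
lemma end_unit : Function.Bijective (fun a : A => a • 𝟙 (Dual.inD A A)) := by
  constructor
  · intro a b hab
    have h1 : (DerivedCategory.singleFunctor (ModuleCat.{u} A) 0).map
        (a • 𝟙 (ModuleCat.of A A)) =
        (DerivedCategory.singleFunctor (ModuleCat.{u} A) 0).map (b • 𝟙 (ModuleCat.of A A)) := by
      rw [Functor.map_smul, Functor.map_smul, CategoryTheory.Functor.map_id]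
      exact hab
    have h2 := (DerivedCategory.singleFunctor (ModuleCat.{u} A) 0).map_injective h1
    have h3 := congr(($h2).hom (1 : A))
    change a • (1 : A) = b • (1 : A) at h3
    simpa using h3
  · intro f
    obtain ⟨g, rfl⟩ := (DerivedCategory.singleFunctor (ModuleCat.{u} A) 0).map_surjective f
    refine ⟨g.hom (1 : A), ?_⟩
    change (g.hom (1 : A)) • 𝟙 ((DerivedCategory.singleFunctor (ModuleCat.{u} A) 0).obj
      (ModuleCat.of A A)) = _
    rw [← CategoryTheory.Functor.map_id, ← Functor.map_smul]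
    congr 1
    ext
    change g.hom (1 : A) • (1 : A) = g.hom (1 : A)
    rw [smul_eq_mul, mul_one]

/-- The cohomology of a complex and of its image in `D(A)`. -/
noncomputable def hdIso (E : DRing.Cx A) (i : ℤ) :
    (homologyFunctor (ModuleCat.{u} A) i).obj (Q.obj E) ≅ E.homology i :=
  (homologyFunctorFactors (ModuleCat.{u} A) i).app E

lemma subsingleton_HD_inD (M : Type u) [AddCommGroup M] [Module A M] (i : ℤ) (hi : i ≠ 0) :
    Subsingleton (Dual.HD A (Dual.inD A M) i) := by
  have h1 : IsZero (((HomologicalComplex.single (ModuleCat.{u} A) (ComplexShape.up ℤ) 0).obj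
      (ModuleCat.of A M)).homology i) := HomologicalComplex.isZero_single_obj_homology _ _ _ _ hi
  exact ModuleCat.subsingleton_of_isZero (h1.of_iso (hdIso (PowFac.sg A M) i))

lemma finite_HD_inD (M : Type u) [AddCommGroup M] [Module A M] [Module.Finite A M] (i : ℤ) :
    Module.Finite A (Dual.HD A (Dual.inD A M) i) := by
  by_cases hi : i = 0
  · subst hi
    exact Module.Finite.equiv ((hdIso (PowFac.sg A M) 0) ≪≫
      HomologicalComplex.singleObjHomologySelfIso (ComplexShape.up ℤ) 0
        (ModuleCat.of A M)).symm.toLinearEquiv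
  · have := subsingleton_HD_inD (A := A) M i hi
    infer_instance

/-- `Hom(A[0], A[i]) = 0` for `i ≠ 0`. -/
lemma hom_unit (i : ℤ) (hi : i ≠ 0) : Subsingleton (Dual.inD A A ⟶ (Dual.inD A A)⟦i⟧) :=
  (Groth.Agent.LoccohB.HomBC.subsingleton_HD_iff _ _).1 (subsingleton_HD_inD A i hi)

section

variable (P : ObjectProperty (Dual.D A)) [P.IsTriangulated]
  (F : P.FullSubcategory ⥤ P.FullSubcategory) [F.CommShift ℤ] [F.IsEquivalence]

/-- Shifts in a full subcategory. -/
noncomputable def shE (Y : P.FullSubcategory) (i : ℤ) : (Y⟦i⟧).obj ≅ (Y.obj)⟦i⟧ :=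
  (P.ι.commShiftIso i).app Y

/-- Hom sets in a full subcategory. -/
noncomputable def homSub (X Y : P.FullSubcategory) (i : ℤ) :
    (X ⟶ Y⟦i⟧) ≃ (X.obj ⟶ Y.obj⟦i⟧) :=
  P.fullyFaithfulι.homEquiv.trans ((Iso.refl X.obj).homCongr (shE P Y i))

/-- `F` on shifted Hom sets. -/
noncomputable def homE (X Y : P.FullSubcategory) (i : ℤ) :
    (X.obj ⟶ Y.obj⟦i⟧) ≃ ((F.obj X).obj ⟶ (F.obj Y).obj⟦i⟧) :=
  ((homSub P X Y i).symm.trans (Functor.FullyFaithful.ofFullyFaithful F).homEquiv).trans
    (((Iso.refl (F.obj X)).homCongr ((F.commShiftIso i).app Y)).trans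
      (homSub P (F.obj X) (F.obj Y) i))

omit [P.IsTriangulated] [F.CommShift ℤ] in
lemma end_bijective [F.Additive] [F.Linear A] (X : P.FullSubcategory)
    (h : Function.Bijective (fun a : A => a • 𝟙 X.obj)) :
    Function.Bijective (fun a : A => a • 𝟙 (F.obj X).obj) := by
  have h1 : Function.Bijective (fun a : A => a • 𝟙 X) := by
    have e : (fun a : A => a • 𝟙 X.obj) = P.fullyFaithfulι.homEquiv ∘ (fun a : A => a • 𝟙 X) := by
      funext a
      rfl
    rw [e] at h
    exact (Function.Bijective.of_comp_iff' P.fullyFaithfulι.homEquiv.bijective _).1 h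
  have e : (fun a : A => a • 𝟙 (F.obj X).obj) =
      (P.fullyFaithfulι.homEquiv ∘ (Functor.FullyFaithful.ofFullyFaithful F).homEquiv) ∘
        (fun a : A => a • 𝟙 X) := by
    funext a
    change _ = (F.map (a • 𝟙 X)).hom
    rw [Functor.map_smul, CategoryTheory.Functor.map_id]
    rfl
  rw [e]
  exact (P.fullyFaithfulι.homEquiv.bijective.comp
    (Functor.FullyFaithful.ofFullyFaithful F).homEquiv.bijective).comp h1

end

variable [IsNoetherianRing A]

theorem main [DTen.HasLTen A] (P : ObjectProperty (Dual.D A))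
    (hP : ∀ K : Dual.D A, P K ↔ ((∀ i : ℤ, Module.Finite A (Dual.HD A K i)) ∧
      ∃ a b : ℤ, ∀ i : ℤ, (i < a ∨ b < i) → Subsingleton (Dual.HD A K i)))
    [P.IsTriangulated] (F : P.FullSubcategory ⥤ P.FullSubcategory) [F.CommShift ℤ]
    [F.IsEquivalence] [F.Additive] [F.Linear A] (hA : P (Dual.inD A A)) :
    DTen.IsInvertible A (F.obj ⟨Dual.inD A A, hA⟩).obj := by
  set A₀ : P.FullSubcategory := ⟨Dual.inD A A, hA⟩
  set L := F.obj A₀ with hL
  refine InvCrit.isInvertible L.obj ?_ (fun i hi => ?_) ?_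
  · -- `L` is perfect
    obtain ⟨hfin, a, b, hab⟩ := (hP L.obj).1 L.property
    obtain ⟨E, b', hb', hE, ⟨e⟩⟩ :=
      Groth.Agent.LoccohB.PCNoeth.isPseudoCoherent'_of_noetherian' L.obj b
        (fun i hi => hab i (Or.inr hi)) hfin
    refine Groth.Agent.PerfC.RingPerf.isPerfect_of_iso e ?_
    refine PerfCrit.isPerfect E hE b' hb' a (fun i hi => ?_) (fun m hm => ?_)
    · have h1 := hab i (Or.inl hi)
      have h2 : IsZero ((homologyFunctor (ModuleCat.{u} A) i).obj L.obj) :=
        ModuleCat.isZero_iff_subsingleton.2 h1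
      exact h2.of_iso ((hdIso E i).symm ≪≫ (homologyFunctor (ModuleCat.{u} A) i).mapIso e)
    · have hκ : P (Dual.inD A (A ⧸ m)) := (hP _).2 ⟨fun i => finite_HD_inD (A ⧸ m) i, 0, 0,
        fun i hi => subsingleton_HD_inD (A ⧸ m) i (by omega)⟩
      let X : P.FullSubcategory := ⟨Dual.inD A (A ⧸ m), hκ⟩
      let Y : P.FullSubcategory := F.objPreimage X
      have eY : F.obj Y ≅ X := F.objObjPreimageIso X
      obtain ⟨-, a', c, hc⟩ := (hP Y.obj).1 Y.property
      refine ⟨-c - 1, fun j hj => ?_⟩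
      have h1 : Subsingleton (Dual.inD A A ⟶ Y.obj⟦-j⟧) :=
        (Groth.Agent.LoccohB.HomBC.subsingleton_HD_iff _ _).1 (hc (-j) (Or.inr (by omega)))
      have h2 : Subsingleton (L.obj ⟶ (F.obj Y).obj⟦-j⟧) :=
        (homE P F A₀ Y (-j)).symm.subsingleton
      have e2 : (F.obj Y).obj⟦-j⟧ ≅ Q.obj ((HomologicalComplex.single (ModuleCat.{u} A)
          (ComplexShape.up ℤ) j).obj (ModuleCat.of A (A ⧸ m))) :=
        (shiftFunctor (Dual.D A) (-j)).mapIso (P.ι.mapIso eY) ≪≫
          ((singleFunctors (ModuleCat.{u} A)).shiftIso (-j) j 0 (by simp)).app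
            (ModuleCat.of A (A ⧸ m))
      exact (e.homCongr e2.symm).subsingleton
  · have := hom_unit (A := A) i hi
    exact (homE P F A₀ A₀ i).symm.subsingleton
  · exact end_bijective P F A₀ end_unit

end K785.AutoEq
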