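import Groth.Agent.LoccohB.LTen
import Groth.Prelude.Def_DTen2

/-!
# The counits `ε` and `ε₃` of the derived tensor products on K-projective complexes

* `isIso_ε` : `ε` is an isomorphism at `(P, P')` for `P`, `P'` K-projective;
* `isIso_ε_left`, `isIso_ε_right` : it is enough that one of the two is K-projective;
* `isIso_ε₃` : `ε₃` is an isomorphism at `(P, (P', P''))` for K-projective complexes.
-/

set_option autoImplicit false

universe u

open CategoryTheory CategoryTheory.Limits MonoidalCategory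

attribute [local instance] HasDerivedCategory.standard

namespace K785.Basic

open DTen Groth.Agent.LoccohB Groth.Agent.LoccohB.DerAbs

variable (A : Type u) [CommRing A]

/-- Every complex has a K-projective resolution. -/
lemma exists_kproj (K : DRing.Cx A) : ∃ (P : DRing.Cx A) (p : P ⟶ K), P.IsKProjective ∧ QuasiIso p := by
  obtain ⟨P, p, h1, h2, -⟩ := KProj.exists_kprojective K
  exact ⟨P, p, h1, h2⟩

variable {A}

lemma liftsFrom_QQ (P P' : DRing.Cx A) [P.IsKProjective] [P'.IsKProjective] :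
    LiftsFrom (QQ A) (P, P') := by
  rintro ⟨Y, Y'⟩ ⟨f, f'⟩
  obtain ⟨g, hg⟩ := KDer.liftsFrom_Q P f
  obtain ⟨g', hg'⟩ := KDer.liftsFrom_Q P' f'
  exact ⟨Prod.mkHom g g', Prod.ext hg hg'⟩

/-- `f ⊗ g` only depends on the images of `f`, `g` in `D(A)`, if the sources are K-projective. -/
lemma Q_map_tensor_eq {P P' Y Y' : DRing.Cx A} [P.IsKProjective] [P'.IsKProjective]
    {f g : P ⟶ Y} {f' g' : P' ⟶ Y'} (h : DerivedCategory.Q.map f = DerivedCategory.Q.map g)
    (h' : DerivedCategory.Q.map f' = DerivedCategory.Q.map g') :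
    DerivedCategory.Q.map (f ▷ P' ≫ Y ◁ f') = DerivedCategory.Q.map (g ▷ P' ≫ Y ◁ g') := by
  obtain ⟨h1⟩ := KDer.homotopy_of_Q_map_eq_of_isKProjective h
  obtain ⟨h2⟩ := KDer.homotopy_of_Q_map_eq_of_isKProjective h'
  rw [Functor.map_comp, Functor.map_comp, LTen.Q_map_eq_of_homotopy (LTen.whiskerRightHomotopy h1 P'),
    LTen.Q_map_eq_of_homotopy (LTen.whiskerLeftHomotopy Y h2)]

lemma identFrom_QQ (P P' : DRing.Cx A) [P.IsKProjective] [P'.IsKProjective] :
    IdentFrom (QQ A) (tensor₂ A) (P, P') := by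
  rintro ⟨Y, Y'⟩ ⟨f, f'⟩ ⟨g, g'⟩ h
  exact Q_map_tensor_eq (congrArg Prod.fst h) (congrArg Prod.snd h)

instance hasPointwise : (tensor₂ A).HasPointwiseLeftDerivedFunctor (qis₂ A) := by
  apply DerAbs.hasPointwiseLeftDerivedFunctor (QQ A)
  rintro ⟨K, L⟩
  obtain ⟨P, p, hP, hp⟩ := exists_kproj A K
  obtain ⟨P', p', hP', hp'⟩ := exists_kproj A L
  exact ⟨(P, P'), (p, p'), ⟨hp, hp'⟩, liftsFrom_QQ P P', identFrom_QQ P P'⟩

theorem hasLTen : HasLTen A := inferInstance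

variable [HasLTen A]

/-- `ε` is an isomorphism on pairs of K-projectives. -/
instance isIso_ε (P P' : DRing.Cx A) [P.IsKProjective] [P'.IsKProjective] :
    IsIso ((ε A).app (P, P')) :=
  DerAbs.isIso_app_of_isLeftDerivedFunctor (qis₂ A) (ε A) (liftsFrom_QQ P P') (identFrom_QQ P P')

/-- naturality of `ε` in the first variable -/
lemma ε_nat_left {K K' : DRing.Cx A} (f : K ⟶ K') (L : DRing.Cx A) :
    (LTen₂ A).map (Prod.mkHom (DerivedCategory.Q.map f) (𝟙 (DerivedCategory.Q.obj L))) ≫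
      (ε A).app (K', L) = (ε A).app (K, L) ≫ DerivedCategory.Q.map (f ▷ L) := by
  have h := (ε A).naturality (Prod.mkHom f (𝟙 L))
  dsimp at h
  simpa using h

/-- naturality of `ε` in the second variable -/
lemma ε_nat_right (K : DRing.Cx A) {L L' : DRing.Cx A} (g : L ⟶ L') :
    (LTen₂ A).map (Prod.mkHom (𝟙 (DerivedCategory.Q.obj K)) (DerivedCategory.Q.map g)) ≫
      (ε A).app (K, L') = (ε A).app (K, L) ≫ DerivedCategory.Q.map (K ◁ g) := by
  have h := (ε A).naturality (Prod.mkHom (𝟙 K) g)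
  dsimp at h
  simpa using h

/-- `ε` is an isomorphism at `(K, P)` for `P` K-projective. -/
instance isIso_ε_right (K P : DRing.Cx A) [P.IsKProjective] : IsIso ((ε A).app (K, P)) := by
  obtain ⟨P', p, hP', hp⟩ := exists_kproj A K
  have h1 := ε_nat_left p P
  have h2 : QuasiIso (p ▷ P) := LTen.quasiIso_whiskerRight P p
  have h3 : IsIso (DerivedCategory.Q.map (p ▷ P)) := inferInstance
  have h4 : IsIso (DerivedCategory.Q.map p) := inferInstance
  have h5 : IsIso (Prod.mkHom (DerivedCategory.Q.map p) (𝟙 (DerivedCategory.Q.obj P))) := by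
    rw [CategoryTheory.isIso_prod_iff]
    exact ⟨h4, inferInstance⟩
  have h6 : (ε A).app (K, P) = inv ((LTen₂ A).map (Prod.mkHom (DerivedCategory.Q.map p)
      (𝟙 (DerivedCategory.Q.obj P)))) ≫ (ε A).app (P', P) ≫ DerivedCategory.Q.map (p ▷ P) := by
    rw [IsIso.eq_inv_comp]
    exact h1
  rw [h6]
  infer_instance

/-- `ε` is an isomorphism at `(P, L)` for `P` K-projective. -/
instance isIso_ε_left (P L : DRing.Cx A) [P.IsKProjective] : IsIso ((ε A).app (P, L)) := by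
  obtain ⟨P', p, hP', hp⟩ := exists_kproj A L
  have h1 := ε_nat_right P p
  have h2 : QuasiIso (P ◁ p) := LTen.quasiIso_whiskerLeft P p
  have h3 : IsIso (DerivedCategory.Q.map (P ◁ p)) := inferInstance
  have h4 : IsIso (DerivedCategory.Q.map p) := inferInstance
  have h5 : IsIso (Prod.mkHom (𝟙 (DerivedCategory.Q.obj P)) (DerivedCategory.Q.map p)) := by
    rw [CategoryTheory.isIso_prod_iff]
    exact ⟨inferInstance, h4⟩
  have h6 : (ε A).app (P, L) = inv ((LTen₂ A).map (Prod.mkHom (𝟙 (DerivedCategory.Q.obj P))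
      (DerivedCategory.Q.map p))) ≫ (ε A).app (P, P') ≫ DerivedCategory.Q.map (P ◁ p) := by
    rw [IsIso.eq_inv_comp]
    exact h1
  rw [h6]
  infer_instance

omit [HasLTen A] in
lemma liftsFrom_QQQ (P P' P'' : DRing.Cx A) [P.IsKProjective] [P'.IsKProjective]
    [P''.IsKProjective] : LiftsFrom (QQQ A) (P, (P', P'')) := by
  rintro ⟨Y, Y', Y''⟩ ⟨f, f', f''⟩
  obtain ⟨g, hg⟩ := KDer.liftsFrom_Q P f
  obtain ⟨g', hg'⟩ := KDer.liftsFrom_Q P' f'
  obtain ⟨g'', hg''⟩ := KDer.liftsFrom_Q P'' f''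
  exact ⟨Prod.mkHom g (Prod.mkHom g' g''), Prod.ext hg (Prod.ext hg' hg'')⟩

omit [HasLTen A] in
lemma identFrom_QQQ (P P' P'' : DRing.Cx A) [P.IsKProjective] [P'.IsKProjective]
    [P''.IsKProjective] : IdentFrom (QQQ A) (tensor₃ A) (P, (P', P'')) := by
  rintro ⟨Y, Y', Y''⟩ ⟨f, f', f''⟩ ⟨g, g', g''⟩ h
  have e1 : DerivedCategory.Q.map f = DerivedCategory.Q.map g := congrArg Prod.fst h
  have e2 : DerivedCategory.Q.map f' = DerivedCategory.Q.map g' :=
    congrArg (fun t => t.2.1) h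
  have e3 : DerivedCategory.Q.map f'' = DerivedCategory.Q.map g'' :=
    congrArg (fun t => t.2.2) h
  obtain ⟨h1⟩ := KDer.homotopy_of_Q_map_eq_of_isKProjective e1
  obtain ⟨h2⟩ := KDer.homotopy_of_Q_map_eq_of_isKProjective e2
  obtain ⟨h3⟩ := KDer.homotopy_of_Q_map_eq_of_isKProjective e3
  have e4 : DerivedCategory.Q.map (f ▷ (P' ⊗ P'')) = DerivedCategory.Q.map (g ▷ (P' ⊗ P'')) :=
    LTen.Q_map_eq_of_homotopy (LTen.whiskerRightHomotopy h1 _)
  have e5 : DerivedCategory.Q.map (Y ◁ (f' ▷ P'')) = DerivedCategory.Q.map (Y ◁ (g' ▷ P'')) :=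
    LTen.Q_map_eq_of_homotopy (LTen.whiskerLeftHomotopy Y (LTen.whiskerRightHomotopy h2 _))
  have e6 : DerivedCategory.Q.map (Y ◁ (Y' ◁ f'')) = DerivedCategory.Q.map (Y ◁ (Y' ◁ g'')) :=
    LTen.Q_map_eq_of_homotopy (LTen.whiskerLeftHomotopy Y (LTen.whiskerLeftHomotopy Y' h3))
  change DerivedCategory.Q.map (f ▷ (P' ⊗ P'') ≫ Y ◁ (f' ▷ P'' ≫ Y' ◁ f'')) =
    DerivedCategory.Q.map (g ▷ (P' ⊗ P'') ≫ Y ◁ (g' ▷ P'' ≫ Y' ◁ g''))
  rw [MonoidalCategory.whiskerLeft_comp, MonoidalCategory.whiskerLeft_comp]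
  simp only [Functor.map_comp, e4, e5, e6]

instance hasPointwise₃ : (tensor₃ A).HasPointwiseLeftDerivedFunctor (qis₃ A) := by
  apply DerAbs.hasPointwiseLeftDerivedFunctor (QQQ A)
  rintro ⟨K, L, M⟩
  obtain ⟨P, p, hP, hp⟩ := exists_kproj A K
  obtain ⟨P', p', hP', hp'⟩ := exists_kproj A L
  obtain ⟨P'', p'', hP'', hp''⟩ := exists_kproj A M
  exact ⟨(P, (P', P'')), (p, (p', p'')), ⟨hp, ⟨hp', hp''⟩⟩, liftsFrom_QQQ P P' P'',
    identFrom_QQQ P P' P''⟩

/-- `ε₃` is an isomorphism on triples of K-projectives. -/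
instance isIso_ε₃ [HasLTen₃ A] (P P' P'' : DRing.Cx A) [P.IsKProjective] [P'.IsKProjective]
    [P''.IsKProjective] : IsIso ((ε₃ A).app (P, (P', P''))) :=
  DerAbs.isIso_app_of_isLeftDerivedFunctor (qis₃ A) (ε₃ A) (liftsFrom_QQQ P P' P'')
    (identFrom_QQQ P P' P'')

end K785.Basic
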