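import Groth.Prelude.Def_DTen3

/-!
# Formal properties of the closed structure of `D(A)`

`curryHom` is an isomorphism.
-/

set_option autoImplicit false

universe u

open CategoryTheory CategoryTheory.Limits MonoidalCategory

attribute [local instance] HasDerivedCategory.standard

namespace K785.Curry

open DTen

variable {A : Type u} [CommRing A] [HasLTen A]

section

variable [HasRHom A]

lemma rhomHomEquiv_symm_comp {K K' L M : Dual.D A} (φ : K' ⟶ K) (ψ : K ⟶ (RHomR A L).obj M) :
    (rhomHomEquiv K' L M).symm (φ ≫ ψ) =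
      (LTen₂ A).map (Prod.mkHom φ (𝟙 L)) ≫ (rhomHomEquiv K L M).symm ψ :=
  (rhomAdj A L).homEquiv_naturality_left_symm φ ψ

lemma rhomHomEquiv_symm_eq {K L M : Dual.D A} (ψ : K ⟶ (RHomR A L).obj M) :
    (rhomHomEquiv K L M).symm ψ = (LTen₂ A).map (Prod.mkHom ψ (𝟙 L)) ≫ ev L M := by
  have := (rhomAdj A L).homEquiv_counit (X := K) (Y := M) (g := ψ)
  exact this

end

/-- A morphism in `D(A)` is an isomorphism if it induces bijections on `Hom(X, -)`. -/
lemma isIso_of_bijective {C : Type*} [Category* C] {Y Z : C} (f : Y ⟶ Z)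
    (h : ∀ X : C, Function.Bijective (fun g : X ⟶ Y => g ≫ f)) : IsIso f := by
  obtain ⟨g, hg⟩ := (h Z).2 (𝟙 Z)
  refine ⟨g, (h Y).1 ?_, hg⟩
  dsimp only at hg ⊢
  rw [Category.assoc, hg, Category.comp_id, Category.id_comp]

variable [HasLTen₃ A] [IsSymMonoidal A]

/-- Naturality of the associator. -/
@[reassoc]
lemma associator_naturality {a a' b b' c c' : Dual.D A} (f : a ⟶ a') (g : b ⟶ b') (h : c ⟶ c') :
    (LTen₂ A).map (Prod.mkHom ((LTen₂ A).map (Prod.mkHom f g)) h) ≫ (associator a' b' c').hom =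
      (associator a b c).hom ≫ (LTen₂ A).map (Prod.mkHom f ((LTen₂ A).map (Prod.mkHom g h))) := by
  have h1 := (assocL A).naturality (X := (a, (b, c))) (Y := (a', (b', c')))
    (Prod.mkHom f (Prod.mkHom g h))
  have h2 := (assocR A).naturality (X := (a, (b, c))) (Y := (a', (b', c')))
    (Prod.mkHom f (Prod.mkHom g h))
  rw [← cancel_mono ((assocR A).app (a', (b', c'))), Category.assoc, Category.assoc,
    associator_hom_assocR]
  refine (show _ = (assocL A).app (a, (b, c)) ≫ (LTen₃ A).map
    (Prod.mkHom f (Prod.mkHom g h)) from h1).trans ?_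
  rw [← associator_hom_assocR]
  exact (Category.assoc _ _ _).trans (congrArg (fun t => (associator a b c).hom ≫ t) h2.symm)

variable [HasRHom A]

theorem curryHom_key (K L M : Dual.D A) (X : Dual.D A)
    (φ : X ⟶ (RHomR A ((LTen₂ A).obj (K, L))).obj M) :
    (rhomHomEquiv _ L M).symm ((rhomHomEquiv X K _).symm (φ ≫ curryHom K L M)) =
      (associator X K L).hom ≫ (rhomHomEquiv X ((LTen₂ A).obj (K, L)) M).symm φ := by
  rw [rhomHomEquiv_symm_comp, curryHom, Equiv.symm_apply_apply, rhomHomEquiv_symm_comp,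
    Equiv.symm_apply_apply, curryHomAux, associator_naturality_assoc, rhomHomEquiv_symm_eq]
  have h : Prod.mkHom (𝟙 K) (𝟙 L) = 𝟙 (K, L) := rfl
  rw [h, CategoryTheory.Functor.map_id]

theorem isIso_curryHom (K L M : Dual.D A) : IsIso (curryHom K L M) := by
  apply isIso_of_bijective
  intro X
  have h : Function.Bijective (fun φ : X ⟶ (RHomR A ((LTen₂ A).obj (K, L))).obj M =>
      (rhomHomEquiv _ L M).symm ((rhomHomEquiv X K _).symm (φ ≫ curryHom K L M))) := by
    have : (fun φ : X ⟶ (RHomR A ((LTen₂ A).obj (K, L))).obj M =>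
      (rhomHomEquiv _ L M).symm ((rhomHomEquiv X K _).symm (φ ≫ curryHom K L M))) =
      (((rhomHomEquiv X ((LTen₂ A).obj (K, L)) M).symm.trans
        ((associator X K L).homFromEquiv (Z := M)).symm)) := by
      funext φ
      rw [curryHom_key]
      rfl
    rw [this]
    exact Equiv.bijective _
  exact (Function.Bijective.of_comp_iff'
    ((rhomHomEquiv X K ((RHomR A L).obj M)).symm.trans (rhomHomEquiv _ L M).symm).bijective _).1 h

end K785.Curry
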