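import Groth.Agent.DTen.K785.EvTen

/-!
# `evalHom` as a map of complexes

* `kap L J P : Hom•(L, J) ⊗ P ⟶ Hom•(Hom•(P, L), J)`, `f ⊗ x ↦ (g ↦ (-1)^{pq} f (g x))`;
* `evalHom_nat₁`, `evalHom_nat₂`, `evalHom_nat₃`: naturality of `evalHom`;
* `evalHom_fac`: `evalHom` is computed by `kap`.
-/

set_option autoImplicit false

universe u

open CategoryTheory CategoryTheory.Limits MonoidalCategory CochainComplex CochainComplex.HomComplex

attribute [local instance] HasDerivedCategory.standard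

namespace K785.EvHom

open DTen Groth.Agent.LoccohB Groth.Agent.LoccohB.TenCx Basic Curry HomC Assoc EvTen

variable {A : Type u} [CommRing A]

section Complexes

variable (L J P : DRing.Cx A)

/-- `(f ⊗ x) ⊗ g ↦ (-1)^{pq} f (g x)` -/
noncomputable def kapU : ((DRing.homCx L J ⊗ P : DRing.Cx A) ⊗ DRing.homCx P L : DRing.Cx A) ⟶ J :=
  (α_ (DRing.homCx L J) P (DRing.homCx P L)).hom ≫
    (DRing.homCx L J ◁ ((braidCx P (DRing.homCx P L)).hom ≫ evx P L)) ≫ evx L J

/-- `f ⊗ x ↦ (g ↦ (-1)^{pq} f (g x))` -/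
noncomputable def kap : (DRing.homCx L J ⊗ P : DRing.Cx A) ⟶ DRing.homCx (DRing.homCx P L) J :=
  curry (kapU L J P)

lemma uncurry_kap : uncurry (kap L J P) = kapU L J P := LTen.uncurry_curry _

lemma kapU_tmk (m p q mp qp n : ℤ) (h₁ : m + p = mp) (h₂ : mp + q = n) (h₃ : q + p = qp)
    (f : (DRing.homCx L J).X m) (x : P.X p) (g : (DRing.homCx P L).X q) :
    ((kapU L J P).f n).hom (tmk (DRing.homCx L J ⊗ P : DRing.Cx A) (DRing.homCx P L) mp q n h₂
      (tmk (DRing.homCx L J) P m p mp h₁ f x) g) =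
      (p * q).negOnePow • ev L J m qp n (by omega) f (ev P L q p qp h₃ g x) := by
  refine (congrArg (((DRing.homCx L J ◁ ((braidCx P (DRing.homCx P L)).hom ≫ evx P L)) ≫
    evx L J).f n).hom (assoc_tmk (DRing.homCx L J) P (DRing.homCx P L) m p q mp (p + q) n h₁ h₂ rfl
      (by omega) f x g)).trans ?_
  refine (congrArg ((evx L J).f n).hom (whiskerLeft_tmk (DRing.homCx L J)
    ((braidCx P (DRing.homCx P L)).hom ≫ evx P L) m (p + q) n (by omega) f _)).trans ?_
  have e1 : (((braidCx P (DRing.homCx P L)).hom ≫ evx P L).f (p + q)).hom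
      (tmk P (DRing.homCx P L) p q (p + q) rfl x g) =
      (p * q).negOnePow • ev P L q p (p + q) (by omega) g x := by
    refine (congrArg ((evx P L).f (p + q)).hom
      (braid_tmk P (DRing.homCx P L) p q (p + q) rfl x g)).trans ?_
    rw [Units.smul_def, map_zsmul, evx_tmk, ← Units.smul_def]
  refine (congrArg (fun t => ((evx L J).f n).hom
    (tmk (DRing.homCx L J) L m (p + q) n (by omega) f t)) e1).trans ?_
  obtain rfl : qp = p + q := by omega
  refine (evx_tmk L J m (p + q) n (by omega) f _).trans ?_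
  rw [Units.smul_def, map_zsmul, ← Units.smul_def]

lemma ev_kap (m p q mp qp n : ℤ) (h₁ : m + p = mp) (h₂ : mp + q = n) (h₃ : q + p = qp)
    (f : (DRing.homCx L J).X m) (x : P.X p) (g : (DRing.homCx P L).X q) :
    ev (DRing.homCx P L) J mp q n h₂ (((kap L J P).f mp).hom
      (tmk (DRing.homCx L J) P m p mp h₁ f x)) g =
      (p * q).negOnePow • ev L J m qp n (by omega) f (ev P L q p qp h₃ g x) :=
  (ev_curry (kapU L J P) mp q n h₂ _ g).trans (kapU_tmk L J P m p q mp qp n h₁ h₂ h₃ f x g)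

end Complexes

variable [HasLTen A] [HasRHom A] [HasLTen₃ A] [IsSymMonoidal A]

omit [HasLTen₃ A] [IsSymMonoidal A] [HasRHom A] in
/-- `(LTen₂ A).map (𝟙, f ≫ g)` -/
lemma tm_id_comp (a : Dual.D A) {b b' b'' : Dual.D A} (f : b ⟶ b') (g : b' ⟶ b'') :
    tm (𝟙 a) (f ≫ g) = tm (𝟙 a) f ≫ tm (𝟙 a) g := by
  rw [tm_comp, Category.id_comp]

omit [HasLTen₃ A] [IsSymMonoidal A] [HasRHom A] in
@[reassoc]
lemma tm_exchange {a a' b b' : Dual.D A} (f : a ⟶ a') (g : b ⟶ b') :
    tm f (𝟙 b) ≫ tm (𝟙 a') g = tm (𝟙 a) g ≫ tm f (𝟙 b') := by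
  rw [tm_comp, tm_comp, Category.id_comp, Category.comp_id, Category.comp_id, Category.id_comp]

/-- the symmetry `b ⊗ a ⟶ a ⊗ b` -/
noncomputable def sy (a b : Dual.D A) : (LTen₂ A).obj (b, a) ⟶ (LTen₂ A).obj (a, b) :=
  (DTen.symm A).app (a, b)

omit [HasLTen₃ A] [IsSymMonoidal A] [HasRHom A] in
@[reassoc]
lemma sy_nat {a a' b b' : Dual.D A} (f : a ⟶ a') (g : b ⟶ b') :
    tm g f ≫ sy a' b' = sy a b ≫ tm f g := symm_nat f g

omit [HasLTen₃ A] [IsSymMonoidal A] [HasRHom A] in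
@[reassoc]
lemma sy_fac (K L : DRing.Cx A) :
    sy (DerivedCategory.Q.obj K) (DerivedCategory.Q.obj L) ≫ (ε A).app (K, L) =
      (ε A).app (L, K) ≫ DerivedCategory.Q.map (braidCx L K).hom := symm_fac A K L

lemma evalHomAux_eq (K L M : Dual.D A) : evalHomAux K L M =
    (associator ((RHomR A L).obj M) K ((RHomR A K).obj L)).hom ≫
      tm (𝟙 ((RHomR A L).obj M)) (sy ((RHomR A K).obj L) K ≫ ev K L) ≫ ev L M := rfl

/-- naturality of `evalHom` in the third variable -/
lemma evalHom_nat₃ (K L : Dual.D A) {M M' : Dual.D A} (g : M ⟶ M') :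
    tm ((RHomR A L).map g) (𝟙 K) ≫ evalHom K L M' =
      evalHom K L M ≫ (RHomR A ((RHomR A K).obj L)).map g := by
  apply ad_injective
  rw [ad_comp, ad_comp_map, ad_evalHom, ad_evalHom, evalHomAux_eq, evalHomAux_eq, assoc_nat_assoc,
    Category.assoc, Category.assoc]
  congr 1
  rw [← tm_map_ev, tm_id, tm_exchange_assoc]

/-- naturality of `evalHom` in the first variable -/
lemma evalHom_nat₁ {K K' : Dual.D A} (f : K ⟶ K') (L M : Dual.D A) :
    tm (𝟙 ((RHomR A L).obj M)) f ≫ evalHom K' L M =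
      evalHom K L M ≫ RHomMap (RHomMap f L) M := by
  apply ad_injective
  rw [ad_comp, ad_comp_RHomMap, ad_evalHom, ad_evalHom, evalHomAux_eq, evalHomAux_eq,
    assoc_nat_assoc]
  have e : tm (𝟙 ((LTen₂ A).obj ((RHomR A L).obj M, K))) (RHomMap f L) =
    tm (tm (𝟙 _) (𝟙 _)) (RHomMap f L) := by rw [tm_id]
  rw [e, assoc_nat_assoc]
  congr 1
  rw [tm_comp_assoc, tm_comp_assoc]
  congr 2
  rw [sy_nat_assoc, sy_nat_assoc, tm_RHomMap_ev]

/-- naturality of `evalHom` in the second variable -/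
lemma evalHom_nat₂ (K : Dual.D A) {L L' : Dual.D A} (h : L ⟶ L') (M : Dual.D A) :
    tm (RHomMap h M) (𝟙 K) ≫ evalHom K L M =
      evalHom K L' M ≫ RHomMap ((RHomR A K).map h) M := by
  apply ad_injective
  rw [ad_comp, ad_comp_RHomMap, ad_evalHom, ad_evalHom, evalHomAux_eq, evalHomAux_eq,
    assoc_nat_assoc]
  have e : tm (𝟙 ((LTen₂ A).obj ((RHomR A L').obj M, K))) ((RHomR A K).map h) =
    tm (tm (𝟙 _) (𝟙 _)) ((RHomR A K).map h) := by rw [tm_id]
  rw [e, assoc_nat_assoc]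
  congr 1
  rw [tm_id, tm_exchange_assoc, tm_RHomMap_ev, tm_comp_assoc, tm_comp_assoc]
  congr 2
  rw [sy_nat_assoc, tm_map_ev, Category.assoc]

/-- `evalHom` on images of complexes. -/
lemma evalHom_fac (P L J : DRing.Cx A) :
    tm (hc L J) (𝟙 (DerivedCategory.Q.obj P)) ≫
      evalHom (DerivedCategory.Q.obj P) (DerivedCategory.Q.obj L) (DerivedCategory.Q.obj J) ≫
      RHomMap (hc P L) (DerivedCategory.Q.obj J) =
    (ε A).app (DRing.homCx L J, P) ≫ DerivedCategory.Q.map (kap L J P) ≫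
      hc (DRing.homCx P L) J := by
  apply ad_injective
  rw [ad_comp, ad_comp_RHomMap, ad_evalHom, ad_comp]
  have e1 : ad (DerivedCategory.Q.map (kap L J P) ≫ hc (DRing.homCx P L) J) =
    (ε A).app ((DRing.homCx L J ⊗ P : DRing.Cx A), DRing.homCx P L) ≫
      DerivedCategory.Q.map (kapU L J P) := by
    rw [← uncurry_kap]
    exact symm_comp_hc _ _ _ _
  refine Eq.trans ?_ (congrArg (fun t => tm ((ε A).app (DRing.homCx L J, P))
    (𝟙 (DerivedCategory.Q.obj (DRing.homCx P L))) ≫ t) e1).symm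
  rw [kapU, Functor.map_comp, evalHomAux_eq]
  have e2 := associator_fac_assoc (DRing.homCx L J) P (DRing.homCx P L)
    (DerivedCategory.Q.map ((DRing.homCx L J ◁ ((braidCx P (DRing.homCx P L)).hom ≫ evx P L)) ≫
      evx L J))
  refine Eq.trans ?_ e2
  rw [reassoc_of% (tm_exchange (tm (hc L J) (𝟙 (DerivedCategory.Q.obj P))) (hc P L))]
  have e3 : tm (𝟙 ((LTen₂ A).obj (DerivedCategory.Q.obj (DRing.homCx L J),
      DerivedCategory.Q.obj P))) (hc P L) = tm (tm (𝟙 _) (𝟙 _)) (hc P L) := by rw [tm_id]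
  rw [e3, assoc_nat_assoc, assoc_nat_assoc]
  refine congrArg (fun t => (associator (DerivedCategory.Q.obj (DRing.homCx L J))
    (DerivedCategory.Q.obj P) (DerivedCategory.Q.obj (DRing.homCx P L))).hom ≫ t) ?_
  rw [tm_id, tm_exchange_assoc, hc_fac, tm_comp_assoc, Category.id_comp, sy_nat_assoc, hc_fac,
    sy_fac_assoc, tm_id_comp, Functor.map_comp]
  simp only [Category.assoc]
  congr 1
  have e4 := ε_nat_right (DRing.homCx L J) ((braidCx P (DRing.homCx P L)).hom ≫ evx P L)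
  rw [Functor.map_comp] at e4
  exact (reassoc_of% e4) _

/-- `evalHom` is an isomorphism on complexes if `kap` is. -/
lemma isIso_evalHom_Q (P L J : DRing.Cx A) [P.IsKProjective] [J.IsKInjective]
    (h : IsIso (kap L J P)) :
    IsIso (evalHom (DerivedCategory.Q.obj P) (DerivedCategory.Q.obj L)
      (DerivedCategory.Q.obj J)) := by
  have e := evalHom_fac P L J
  have h1 : IsIso (RHomMap (hc P L) (DerivedCategory.Q.obj J)) := by
    change IsIso (((RHom A).map (hc P L).op).app _)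
    infer_instance
  rw [← IsIso.eq_inv_comp, ← IsIso.eq_comp_inv] at e
  rw [e]
  infer_instance

omit [HasLTen₃ A] [IsSymMonoidal A] in
lemma isIso_RHomMap {L L' : Dual.D A} (g : L' ⟶ L) [IsIso g] (M : Dual.D A) :
    IsIso (RHomMap g M) := by
  change IsIso (((RHom A).map g.op).app M)
  infer_instance

/-- Invariance of "`evalHom` is an isomorphism" under isomorphisms. -/
lemma isIso_evalHom_of_iso {K K' L L' M M' : Dual.D A} (e : K ≅ K') (f : L ≅ L') (g : M ≅ M')
    (h : IsIso (evalHom K L M)) : IsIso (evalHom K' L' M') := by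
  have h1 := evalHom_nat₁ e.hom L M
  have i1 := isIso_RHomMap e.hom L
  have i2 := isIso_RHomMap (RHomMap e.hom L) M
  have h1' : IsIso (evalHom K' L M) := by
    rw [← IsIso.eq_inv_comp] at h1
    rw [h1]
    infer_instance
  have h2 := evalHom_nat₂ K' f.inv M
  have i3 := isIso_RHomMap f.inv M
  have i4 := isIso_RHomMap ((RHomR A K').map f.inv) M
  have h2' : IsIso (evalHom K' L' M) := by
    rw [← IsIso.eq_inv_comp] at h2
    rw [h2]
    infer_instance
  have h3 := evalHom_nat₃ K' L' g.hom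
  rw [← IsIso.eq_inv_comp] at h3
  rw [h3]
  infer_instance

end K785.EvHom
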