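import Groth.Agent.LoccohB.ThetaHom

/-!
# `theta : N ⊗ Hom•(F, J) ⟶ Hom•(F, N ⊗ J)` is an isomorphism for `N` bounded with finite projective terms
-/

set_option autoImplicit false

universe u

open CategoryTheory CategoryTheory.Limits MonoidalCategory CochainComplex CochainComplex.HomComplex

attribute [local instance] HasDerivedCategory.standard

namespace K785.ThetaN

open Groth.Agent.LoccohB Groth.Agent.LoccohB.TenCx ThetaHom

variable {A : Type u} [CommRing A] (N F J : DRing.Cx A)

/-- the bilinear maps defining `con` -/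
noncomputable def conBil {p : ℤ} (v : N.X p →ₗ[A] A) (s p' s' : ℤ) : N.X p' →ₗ[A] J.X s' →ₗ[A] J.X s :=
  if h : p' = p ∧ s' = s then by
    obtain ⟨rfl, rfl⟩ := h
    exact (LinearMap.lsmul A (J.X s')).comp v
  else 0

lemma conBil_self {p : ℤ} (v : N.X p →ₗ[A] A) (s : ℤ) (x : N.X p) (j : J.X s) :
    conBil N J v s p s x j = v x • j := by
  unfold conBil
  rw [dif_pos ⟨rfl, rfl⟩]
  rfl

lemma conBil_ne {p : ℤ} (v : N.X p →ₗ[A] A) (s p' s' : ℤ) (h : p' ≠ p) (x : N.X p')
    (j : J.X s') : conBil N J v s p' s' x j = 0 := by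
  unfold conBil
  rw [dif_neg (fun h' => h h'.1)]
  rfl

/-- Contraction `x ⊗ j ↦ v x • j`, `(N ⊗ J)^r ⟶ J^s`, for a linear form `v` on `N^p`, `p + s = r`. -/
noncomputable def con {p : ℤ} (v : N.X p →ₗ[A] A) (r s : ℤ) :
    (N ⊗ J : DRing.Cx A).X r ⟶ J.X s :=
  descT fun p' s' _ => conBil N J v s p' s'

lemma con_tmk {p : ℤ} (v : N.X p →ₗ[A] A) (r s : ℤ) (h : p + s = r) (x : N.X p) (j : J.X s) :
    (con N J v r s).hom (tmk N J p s r h x j) = v x • j :=
  (descT_tmk (fun p' s' _ => conBil N J v s p' s') p s h x j).trans (conBil_self N J v s x j)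

lemma con_tmk_ne {p : ℤ} (v : N.X p →ₗ[A] A) (r s p' s' : ℤ) (h : p' + s' = r) (hp : p' ≠ p)
    (x : N.X p') (j : J.X s') : (con N J v r s).hom (tmk N J p' s' r h x j) = 0 :=
  (descT_tmk (fun p' s' _ => conBil N J v s p' s') p' s' h x j).trans
    (conBil_ne N J v s p' s' hp x j)

variable {N}

/-- decomposition of elements of `N ⊗ J` along the dual bases -/
lemma sum_con (D : DualBases N) (r : ℤ) (w : (N ⊗ J : DRing.Cx A).X r) :
    ∑ p ∈ Finset.Icc D.a D.b, ∑ k, tmk N J p (r - p) r (by omega) (D.U p k)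
      ((con N J (D.V p k) r (r - p)).hom w) = w := by
  have : ModuleCat.ofHom (∑ p ∈ Finset.Icc D.a D.b, ∑ k,
      tmk N J p (r - p) r (by omega) (D.U p k) ∘ₗ (con N J (D.V p k) r (r - p)).hom) =
      𝟙 ((N ⊗ J : DRing.Cx A).X r) := by
    refine hom_ext_tmk fun p' s' h x j => ?_
    obtain rfl : s' = r - p' := by omega
    refine (LinearMap.sum_apply _ _ _).trans ?_
    change _ = tmk N J p' (r - p') r h x j
    by_cases hp : p' ∈ Finset.Icc D.a D.b
    · rw [Finset.sum_eq_single p' (fun p _ hpp => ?_) (fun h => absurd hp h)]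
      · rw [LinearMap.sum_apply]
        conv_rhs => rw [← D.sum_eq p' x, map_sum, LinearMap.sum_apply]
        refine Finset.sum_congr rfl fun k _ => ?_
        rw [LinearMap.comp_apply, con_tmk N J (D.V p' k) r (r - p') h x j, map_smul, map_smul,
          LinearMap.smul_apply]
      · rw [LinearMap.sum_apply]
        refine Finset.sum_eq_zero fun k _ => ?_
        rw [LinearMap.comp_apply, con_tmk_ne N J (D.V p k) r (r - p) p' (r - p') h (Ne.symm hpp) x j,
          map_zero]
    · have hx := D.zero p' hp x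
      rw [hx, map_zero, LinearMap.zero_apply]
      refine Finset.sum_eq_zero fun p _ => ?_
      rw [map_zero]
  refine Eq.trans ?_ (congr($(this).hom w))
  refine Eq.trans ?_ (LinearMap.sum_apply _ _ _).symm
  refine Finset.sum_congr rfl fun p _ => ?_
  rw [LinearMap.sum_apply]
  rfl

variable (N) in
/-- postcomposition of a cochain with the contraction -/
noncomputable def conC {p : ℤ} (v : N.X p →ₗ[A] A) (n m : ℤ) (_ : p + m = n) :
    Cochain F (N ⊗ J : DRing.Cx A) n →ₗ[A] Cochain F J m where
  toFun z := mkC F J m fun q s _ => (con N J v (n + q) s).hom ∘ₗ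
    evC F (N ⊗ J : DRing.Cx A) n q (n + q) rfl z
  map_add' z z' := by
    refine ext_evC fun q s hqs y => ?_
    rw [evC_mkC, map_add (evC F J m q s hqs), LinearMap.add_apply, evC_mkC, evC_mkC]
    simp only [map_add, LinearMap.comp_apply, LinearMap.add_apply]
  map_smul' a z := by
    refine ext_evC fun q s hqs y => ?_
    rw [evC_mkC, RingHom.id_apply, map_smul (evC F J m q s hqs), LinearMap.smul_apply, evC_mkC]
    simp only [map_smul, LinearMap.comp_apply, LinearMap.smul_apply]

lemma evC_conC {p : ℤ} (v : N.X p →ₗ[A] A) (n m : ℤ) (h : p + m = n)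
    (z : Cochain F (N ⊗ J : DRing.Cx A) n) (q s r : ℤ) (hqs : m + q = s) (hr : n + q = r)
    (y : F.X q) :
    evC F J m q s hqs (conC N F J v n m h z) y =
      (con N J v r s).hom (evC F (N ⊗ J : DRing.Cx A) n q r hr z y) := by
  subst hr
  exact evC_mkC F J m _ q s hqs y

/-- the inverse of `theta`. -/
noncomputable def thInv (D : DualBases N) (n : ℤ) :
    Cochain F (N ⊗ J : DRing.Cx A) n →ₗ[A] (N ⊗ DRing.homCx F J : DRing.Cx A).X n :=
  ∑ p ∈ Finset.Icc D.a D.b, ∑ k,
    (tmk N (DRing.homCx F J) p (n - p) n (by omega) (D.U p k)) ∘ₗ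
      (conC N F J (D.V p k) n (n - p) (by omega))

lemma thInv_apply (D : DualBases N) (n : ℤ) (z : Cochain F (N ⊗ J : DRing.Cx A) n) :
    thInv F J D n z = ∑ p ∈ Finset.Icc D.a D.b, ∑ k,
      tmk N (DRing.homCx F J) p (n - p) n (by omega) (D.U p k)
        (conC N F J (D.V p k) n (n - p) (by omega) z) := by
  unfold thInv
  rw [LinearMap.sum_apply]
  refine Finset.sum_congr rfl fun p _ => ?_
  rw [LinearMap.sum_apply]
  rfl

lemma theta_thInv (D : DualBases N) (n : ℤ) (z : Cochain F (N ⊗ J : DRing.Cx A) n) :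
    ((theta N F J).f n).hom (thInv F J D n z) = z := by
  rw [thInv_apply, map_sum]
  refine ext_evC fun q r h y => ?_
  refine Eq.trans ?_ (sum_con J D r (evC F (N ⊗ J : DRing.Cx A) n q r h z y))
  have e1 : evC F (N ⊗ J : DRing.Cx A) n q r h
      (∑ p ∈ Finset.Icc D.a D.b, ((theta N F J).f n).hom (∑ k,
        tmk N (DRing.homCx F J) p (n - p) n (by omega) (D.U p k)
          (conC N F J (D.V p k) n (n - p) (by omega) z))) y =
      ∑ p ∈ Finset.Icc D.a D.b, evC F (N ⊗ J : DRing.Cx A) n q r h
        (((theta N F J).f n).hom (∑ k, tmk N (DRing.homCx F J) p (n - p) n (by omega) (D.U p k)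
          (conC N F J (D.V p k) n (n - p) (by omega) z))) y :=
    map_sum (((evC F (N ⊗ J : DRing.Cx A) n q r h)).flip y) _ _
  refine e1.trans (Finset.sum_congr rfl fun p _ => ?_)
  rw [map_sum]
  have e2 : evC F (N ⊗ J : DRing.Cx A) n q r h
      (∑ k, ((theta N F J).f n).hom
        (tmk N (DRing.homCx F J) p (n - p) n (by omega) (D.U p k)
          (conC N F J (D.V p k) n (n - p) (by omega) z))) y =
      ∑ k, evC F (N ⊗ J : DRing.Cx A) n q r h (((theta N F J).f n).hom
        (tmk N (DRing.homCx F J) p (n - p) n (by omega) (D.U p k)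
          (conC N F J (D.V p k) n (n - p) (by omega) z))) y :=
    map_sum (((evC F (N ⊗ J : DRing.Cx A) n q r h)).flip y) _ _
  refine e2.trans (Finset.sum_congr rfl fun k _ => ?_)
  refine (congrArg (fun t => evC F (N ⊗ J : DRing.Cx A) n q r h t y)
    (theta_tmk N F J p (n - p) n (by omega) (D.U p k) _)).trans ?_
  refine (evC_thetaBil N F J p (n - p) n (by omega) (D.U p k) _ q r (r - p) h (by omega) y).trans ?_
  refine congrArg (tmk N J p (r - p) r (by omega) (D.U p k)) ?_
  exact evC_conC F J (D.V p k) n (n - p) (by omega) z q (r - p) r (by omega) h y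

lemma conC_thetaBil {p : ℤ} (v : N.X p →ₗ[A] A) (m n : ℤ) (h : p + m = n) (x : N.X p)
    (g : Cochain F J m) :
    conC N F J v n m h (thetaBil N F J p m n h x g) = v x • g := by
  refine ext_evC fun q s hqs y => ?_
  rw [evC_conC F J v n m h _ q s (n + q) hqs rfl, evC_thetaBil N F J p m n h x g q (n + q) s rfl hqs,
    con_tmk, map_smul, LinearMap.smul_apply]

lemma conC_thetaBil_ne {p : ℤ} (v : N.X p →ₗ[A] A) (m n p' m' : ℤ) (h : p + m = n)
    (h' : p' + m' = n) (hp : p' ≠ p) (x : N.X p') (g : Cochain F J m') :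
    conC N F J v n m h (thetaBil N F J p' m' n h' x g) = 0 := by
  refine ext_evC fun q s hqs y => ?_
  rw [evC_conC F J v n m h _ q s (n + q) hqs rfl,
    evC_thetaBil N F J p' m' n h' x g q (n + q) (m' + q) rfl rfl, con_tmk_ne N J v _ _ _ _ _ hp,
    map_zero, LinearMap.zero_apply]

lemma thInv_theta (D : DualBases N) (n : ℤ) (t : (N ⊗ DRing.homCx F J : DRing.Cx A).X n) :
    thInv F J D n (((theta N F J).f n).hom t) = t := by
  have : (theta N F J).f n ≫ ModuleCat.ofHom (X := (DRing.homCx F (N ⊗ J : DRing.Cx A)).X n)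
      (thInv F J D n) = 𝟙 _ := by
    refine hom_ext_tmk fun p' m' h x g => ?_
    obtain rfl : m' = n - p' := by omega
    refine (congrArg (thInv F J D n) (theta_tmk N F J p' (n - p') n h x g)).trans ?_
    refine (thInv_apply F J D n _).trans ?_
    change _ = tmk N (DRing.homCx F J) p' (n - p') n h x g
    by_cases hp : p' ∈ Finset.Icc D.a D.b
    · rw [Finset.sum_eq_single p' (fun p _ hpp => ?_) (fun h => absurd hp h)]
      · conv_rhs => rw [← D.sum_eq p' x, map_sum, LinearMap.sum_apply]
        refine Finset.sum_congr rfl fun k _ => ?_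
        refine (congrArg (tmk N (DRing.homCx F J) p' (n - p') n h (D.U p' k))
          (conC_thetaBil F J (D.V p' k) (n - p') n h x g)).trans ?_
        refine (map_smul (tmk N (DRing.homCx F J) p' (n - p') n h (D.U p' k)) _ _).trans ?_
        rw [map_smul, LinearMap.smul_apply]
      · refine Finset.sum_eq_zero fun k _ => ?_
        refine (congrArg (tmk N (DRing.homCx F J) p (n - p) n (by omega) (D.U p k))
          (conC_thetaBil_ne F J (D.V p k) (n - p) n p' (n - p') (by omega) h (Ne.symm hpp)
            x g)).trans ?_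
        exact map_zero _
    · have hx := D.zero p' hp x
      subst hx
      have e0 : tmk N (DRing.homCx F J) p' (n - p') n h 0 g = 0 := by
        rw [map_zero, LinearMap.zero_apply]
      have e1 : thetaBil N F J p' (n - p') n h 0 g = 0 := by
        rw [map_zero]
        rfl
      refine Eq.trans (Finset.sum_eq_zero fun p _ => Finset.sum_eq_zero fun k _ => ?_) e0.symm
      refine (congrArg (fun w => tmk N (DRing.homCx F J) p (n - p) n (by omega) (D.U p k)
        (conC N F J (D.V p k) n (n - p) (by omega) w)) e1).trans ?_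
      exact (congrArg (tmk N (DRing.homCx F J) p (n - p) n (by omega) (D.U p k))
        (map_zero (conC N F J (D.V p k) n (n - p) (by omega)))).trans (map_zero _)
  exact congr($(this).hom t)

/-- `theta N F J` is an isomorphism for `N` bounded with finite projective terms. -/
lemma isIso_theta_left (D : DualBases N) : IsIso (theta N F J) := by
  have : ∀ n, IsIso ((theta N F J).f n) := fun n => by
    rw [ConcreteCategory.isIso_iff_bijective]
    exact ⟨Function.LeftInverse.injective (g := thInv F J D n) (thInv_theta F J D n),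
      Function.RightInverse.surjective (g := thInv F J D n) (theta_thInv F J D n)⟩
  exact HomologicalComplex.Hom.isIso_of_components _

end K785.ThetaN
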