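import Groth.Agent.DTen.K785.EvTen
import Groth.Agent.DTen.K785.ThetaN
import Groth.Agent.LoccohB.PerfTri

/-!
# `evalTen K L M` is an isomorphism if `M` or `K` is perfect
-/

set_option autoImplicit false

universe u

open CategoryTheory CategoryTheory.Limits MonoidalCategory CochainComplex CochainComplex.HomComplex

attribute [local instance] HasDerivedCategory.standard

namespace K785.EvTenMain

open DTen Groth.Agent.LoccohB Groth.Agent.LoccohB.TenCx Basic Curry HomC Assoc EvTen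

variable {A : Type u} [CommRing A]

/-- Representatives of perfect complexes. -/
lemma exists_perfect_rep {K : Dual.D A} (hK : DRing.IsPerfect A K) :
    ∃ (P : DRing.Cx A), P.IsKProjective ∧ Nonempty (ThetaHom.DualBases P) ∧
      Nonempty (DerivedCategory.Q.obj P ≅ K) := by
  obtain ⟨P, a, b, hab, hP, ⟨e⟩⟩ := hK
  have hK : P.IsKProjective := PerfTri.isKProjective_of_vanishesAbove (b := b)
    (fun i hi => hab i (Or.inr hi)) (fun i => (hP i).2)
  exact ⟨P, hK, ThetaHom.exists_dualBases P hab hP, ⟨e⟩⟩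

variable [HasLTen A] [HasRHom A] [HasLTen₃ A] [IsSymMonoidal A]

theorem isIso_evalTen_of_isPerfect_hom_source (K L M : Dual.D A) (hM : DRing.IsPerfect A M) :
    IsIso (evalTen K L M) := by
  obtain ⟨F, hF, ⟨D⟩, ⟨eM⟩⟩ := exists_perfect_rep hM
  obtain ⟨N, hN, ⟨eK⟩⟩ := LTen.exists_kproj K
  obtain ⟨J, hJ, ⟨eL⟩⟩ := LTen.exists_kproj L
  exact isIso_evalTen_of_iso eK eL eM (isIso_evalTen_Q N F J (ThetaHom.isIso_theta N D J))

theorem isIso_evalTen_of_isPerfect_tensor_left (K L M : Dual.D A) (hK : DRing.IsPerfect A K) :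
    IsIso (evalTen K L M) := by
  obtain ⟨N, hN, ⟨D⟩, ⟨eK⟩⟩ := exists_perfect_rep hK
  obtain ⟨F, hF, ⟨eM⟩⟩ := LTen.exists_kproj M
  obtain ⟨J, hJ, ⟨eL⟩⟩ := LTen.exists_kproj L
  exact isIso_evalTen_of_iso eK eL eM (isIso_evalTen_Q N F J (ThetaN.isIso_theta_left F J D))

end K785.EvTenMain
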