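import Groth.Agent.DTen.K785.KapIso
import Groth.Agent.DTen.K785.EvTenMain
import Mathlib.Algebra.Homology.DerivedCategory.TStructure
import Mathlib.Algebra.Category.ModuleCat.Injective

/-!
# `evalHom K L M` is an isomorphism if `K` is perfect, or if `K` is pseudo-coherent, `L` is bounded below and
`M` has finite injective dimension
-/

set_option autoImplicit false

universe u

open CategoryTheory CategoryTheory.Limits MonoidalCategory CochainComplex CochainComplex.HomComplex

attribute [local instance] HasDerivedCategory.standard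

namespace K785.EvHomMain

open DTen Groth.Agent.LoccohB Groth.Agent.LoccohB.TenCx Basic Curry HomC Assoc EvTen EvHom KapIso

variable {A : Type u} [CommRing A]

/-- The finiteness conditions for `P` bounded. -/
noncomputable def fin3OfBounded {P : DRing.Cx A} (L J : DRing.Cx A) {a b : ℤ}
    (hab : DRing.VanishesOutside P a b) : Fin3 P L J where
  S _ := Finset.Icc a b
  T _ := Finset.Icc a b
  hS _ _ q _ hq := Or.inl fun x => by
    have := ModuleCat.subsingleton_of_isZero (hab q (by rw [Finset.mem_Icc] at hq; omega))
    exact Subsingleton.elim _ _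
  hT _ _ q _ hq := Or.inl fun x => by
    have := ModuleCat.subsingleton_of_isZero (hab q (by rw [Finset.mem_Icc] at hq; omega))
    exact Subsingleton.elim _ _

/-- The finiteness conditions for `P` bounded above, `L` bounded below, `J` bounded. -/
noncomputable def fin3OfPC {P L J : DRing.Cx A} {b a d : ℤ}
    (hP : DRing.VanishesAbove P b) (hL : ∀ i < a, IsZero (L.X i))
    (hJ : ∀ i, d < i → IsZero (J.X i)) : Fin3 P L J where
  S n := Finset.Icc (n - d + a) b
  T m := Finset.Icc (a - m) b
  hS n m q h hq := by
    rw [Finset.mem_Icc, not_and_or, not_le, not_le] at hq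
    rcases hq with hq | hq
    · refine Or.inr fun f => ?_
      refine Cochain.ext f 0 fun i j hij => ?_
      by_cases hi : i < a
      · exact (hL i hi).eq_of_src _ _
      · exact (hJ j (by omega)).eq_of_tgt _ _
    · refine Or.inl fun x => ?_
      have := ModuleCat.subsingleton_of_isZero (hP q hq)
      exact Subsingleton.elim _ _
  hT m s q h hq := by
    rw [Finset.mem_Icc, not_and_or, not_le, not_le] at hq
    rcases hq with hq | hq
    · refine Or.inr fun l => ?_
      have := ModuleCat.subsingleton_of_isZero (hL s (by omega))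
      exact Subsingleton.elim _ _
    · refine Or.inl fun x => ?_
      have := ModuleCat.subsingleton_of_isZero (hP q hq)
      exact Subsingleton.elim _ _

variable [HasLTen A] [HasRHom A] [HasLTen₃ A] [IsSymMonoidal A]

theorem isIso_evalHom_of_isPerfect (K L M : Dual.D A) (hK : DRing.IsPerfect A K) :
    IsIso (evalHom K L M) := by
  obtain ⟨P, a, b, hab, hP, ⟨eK⟩⟩ := hK
  have hK : P.IsKProjective := PerfTri.isKProjective_of_vanishesAbove (b := b)
    (fun i hi => hab i (Or.inr hi)) (fun i => (hP i).2)
  obtain ⟨D⟩ := exists_DB P hP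
  obtain ⟨L', hL', ⟨eL⟩⟩ := LTen.exists_kproj L
  obtain ⟨J, hJ, ⟨eM⟩⟩ := LTen.exists_kinj M
  exact isIso_evalHom_of_iso eK eL eM
    (isIso_evalHom_Q P L' J (isIso_kap D (fin3OfBounded L' J hab)))

theorem isIso_evalHom_of_isPseudoCoherent_of_isGE_of_hasFiniteInjDim (K L M : Dual.D A)
    (hK : DRing.IsPseudoCoherent' A K) (n : ℤ) (hL : DerivedCategory.IsGE L n)
    (hM : DRing.HasFiniteInjDim A M) : IsIso (evalHom K L M) := by
  obtain ⟨P, b, hb, hP, ⟨eK⟩⟩ := hK
  have hP' : DRing.TermwiseFiniteProjective P := fun i => by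
    have := (hP i).1
    have := (hP i).2
    exact ⟨inferInstance, inferInstance⟩
  have hK : P.IsKProjective := PerfTri.isKProjective_of_vanishesAbove (b := b) hb
    (fun i => (hP' i).2)
  obtain ⟨D⟩ := exists_DB P hP'
  obtain ⟨L', hL', ⟨eL⟩⟩ := DerivedCategory.exists_iso_Q_obj_of_isGE L n
  obtain ⟨c, d, J, hJ, hJi, ⟨eM⟩⟩ := hM
  have hge : J.IsStrictlyGE c := (CochainComplex.isStrictlyGE_iff J c).2 fun j hj => hJ j (Or.inl hj)
  have hinj : ∀ j : ℤ, Injective (J.X j) := fun j => by
    have := hJi j
    exact (Module.injective_iff_injective_object A (J.X j)).1 this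
  have hKinj : J.IsKInjective := CochainComplex.isKInjective_of_injective J c
  exact isIso_evalHom_of_iso eK eL.symm eM
    (isIso_evalHom_Q P L' J (isIso_kap D (fin3OfPC hb
      (fun i hi => L'.isZero_of_isStrictlyGE n i hi) (fun i hi => hJ i (Or.inr hi)))))

end K785.EvHomMain
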