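import Groth.Agent.DTen.K785.HomC
import Groth.Agent.DTen.K785.Assoc

/-!
# `evalTen` as a map of complexes

* `tm f g` : the tensor product of two maps of `D(A)`, with its functoriality;
* `associator_fac` : the associator of `D(A)` and the associator of complexes;
* `evalTen_nat₁`, `evalTen_nat₂`, `evalTen_nat₃` : naturality of `evalTen`;
* `evalTen_fac` : `evalTen` is computed by `theta : N ⊗ Hom•(F, J) ⟶ Hom•(F, N ⊗ J)`.
-/

set_option autoImplicit false

universe u

open CategoryTheory CategoryTheory.Limits MonoidalCategory CochainComplex CochainComplex.HomComplex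

attribute [local instance] HasDerivedCategory.standard

namespace K785.EvTen

open DTen Groth.Agent.LoccohB Groth.Agent.LoccohB.TenCx Basic Curry HomC Assoc

variable {A : Type u} [CommRing A] [HasLTen A]

/-- `f ⊗^L g` -/
noncomputable abbrev tm {a a' b b' : Dual.D A} (f : a ⟶ a') (g : b ⟶ b') :
    (LTen₂ A).obj (a, b) ⟶ (LTen₂ A).obj (a', b') := (LTen₂ A).map (Prod.mkHom f g)

@[reassoc]
lemma tm_comp {a a' a'' b b' b'' : Dual.D A} (f : a ⟶ a') (f' : a' ⟶ a'') (g : b ⟶ b')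
    (g' : b' ⟶ b'') : tm f g ≫ tm f' g' = tm (f ≫ f') (g ≫ g') := by
  rw [tm, tm, ← Functor.map_comp]
  rfl

lemma tm_id (a b : Dual.D A) : tm (𝟙 a) (𝟙 b) = 𝟙 _ := by
  rw [tm]
  exact (LTen₂ A).map_id (a, b)

instance isIso_tm {a a' b b' : Dual.D A} (f : a ⟶ a') (g : b ⟶ b') [IsIso f] [IsIso g] :
    IsIso (tm f g) :=
  ⟨tm (inv f) (inv g), by rw [tm_comp, IsIso.hom_inv_id, IsIso.hom_inv_id, tm_id],
    by rw [tm_comp, IsIso.inv_hom_id, IsIso.inv_hom_id, tm_id]⟩

@[reassoc]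
lemma ε_nat {K K' L L' : DRing.Cx A} (f : K ⟶ K') (g : L ⟶ L') :
    tm (DerivedCategory.Q.map f) (DerivedCategory.Q.map g) ≫ (ε A).app (K', L') =
      (ε A).app (K, L) ≫ DerivedCategory.Q.map (f ▷ L ≫ K' ◁ g) := by
  exact (ε A).naturality (Prod.mkHom f g)

@[reassoc]
lemma symm_nat {a a' b b' : Dual.D A} (f : a ⟶ a') (g : b ⟶ b') :
    tm g f ≫ (DTen.symm A).app (a', b') = (DTen.symm A).app (a, b) ≫ tm f g :=
  (DTen.symm A).naturality (X := (a, b)) (Y := (a', b')) (Prod.mkHom f g)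

section Assoc

variable [HasLTen₃ A] [IsSymMonoidal A]

/-- The associator of `D(A)` on images of complexes. -/
@[reassoc]
lemma associator_fac (K L M : DRing.Cx A) :
    (associator (DerivedCategory.Q.obj K) (DerivedCategory.Q.obj L) (DerivedCategory.Q.obj M)).hom ≫
      tm (𝟙 (DerivedCategory.Q.obj K)) ((ε A).app (L, M)) ≫ (ε A).app (K, L ⊗ M) =
    tm ((ε A).app (K, L)) (𝟙 (DerivedCategory.Q.obj M)) ≫ (ε A).app (K ⊗ L, M) ≫
      DerivedCategory.Q.map (α_ K L M).hom := by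
  have h1 := assocL_fac A (K, (L, M))
  have h2 := assocR_fac A (K, (L, M))
  have h3 := associator_hom_assocR (DerivedCategory.Q.obj K) (DerivedCategory.Q.obj L)
    (DerivedCategory.Q.obj M)
  refine Eq.trans ?_ h1
  refine Eq.trans ?_ (congrArg (fun t => t ≫ (ε₃ A).app (K, (L, M))) h3)
  exact (congrArg (fun t => (associator (DerivedCategory.Q.obj K) (DerivedCategory.Q.obj L)
    (DerivedCategory.Q.obj M)).hom ≫ t) h2.symm).trans (Category.assoc _ _ _).symm

@[reassoc]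
lemma assoc_nat {a a' b b' c c' : Dual.D A} (f : a ⟶ a') (g : b ⟶ b') (h : c ⟶ c') :
    tm (tm f g) h ≫ (associator a' b' c').hom = (associator a b c).hom ≫ tm f (tm g h) :=
  Curry.associator_naturality f g h

end Assoc

variable [HasRHom A]

/-- the adjunct of a morphism -/
noncomputable abbrev ad {K L M : Dual.D A} (φ : K ⟶ (RHomR A L).obj M) :
    (LTen₂ A).obj (K, L) ⟶ M := (rhomHomEquiv K L M).symm φ

lemma ad_injective {K L M : Dual.D A} {φ ψ : K ⟶ (RHomR A L).obj M} (h : ad φ = ad ψ) : φ = ψ :=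
  (rhomHomEquiv K L M).symm.injective h

lemma ad_comp {K K' L M : Dual.D A} (φ : K' ⟶ K) (ψ : K ⟶ (RHomR A L).obj M) :
    ad (φ ≫ ψ) = tm φ (𝟙 L) ≫ ad ψ := rhomHomEquiv_symm_comp φ ψ

lemma ad_eq {K L M : Dual.D A} (ψ : K ⟶ (RHomR A L).obj M) : ad ψ = tm ψ (𝟙 L) ≫ ev L M :=
  rhomHomEquiv_symm_eq ψ

lemma ad_comp_map {K L M M' : Dual.D A} (ψ : K ⟶ (RHomR A L).obj M) (g : M ⟶ M') :
    ad (ψ ≫ (RHomR A L).map g) = ad ψ ≫ g :=
  (rhomAdj A L).homEquiv_naturality_right_symm ψ g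

lemma ad_comp_RHomMap {K L L' M : Dual.D A} (ψ : K ⟶ (RHomR A L).obj M) (h : L' ⟶ L) :
    ad (ψ ≫ RHomMap h M) = tm (𝟙 K) h ≫ ad ψ := by
  rw [ad_comp, ad_eq, ad_eq, RHom_map_ev, tm_comp_assoc, tm_comp_assoc]
  simp only [Category.id_comp, Category.comp_id]

@[reassoc]
lemma tm_map_ev {L M M' : Dual.D A} (g : M ⟶ M') :
    tm ((RHomR A L).map g) (𝟙 L) ≫ ev L M' = ev L M ≫ g := by
  rw [← ad_eq, ← Category.id_comp ((RHomR A L).map g), ad_comp_map, ad_eq, tm_id,
    Category.id_comp]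

@[reassoc]
lemma tm_RHomMap_ev {L L' M : Dual.D A} (h : L' ⟶ L) :
    tm (RHomMap h M) (𝟙 L') ≫ ev L' M = tm (𝟙 _) h ≫ ev L M := RHom_map_ev h M

lemma ad_hc (K L : DRing.Cx A) :
    ad (hc K L) = (ε A).app (DRing.homCx K L, K) ≫ DerivedCategory.Q.map (evx K L) := by
  rw [ad, hc, Equiv.symm_apply_apply]

variable [HasLTen₃ A] [IsSymMonoidal A]

lemma ad_evalTen (K L M : Dual.D A) : ad (evalTen K L M) = evalTenAux K L M := by
  rw [ad, evalTen, Equiv.symm_apply_apply]

lemma ad_evalHom (K L M : Dual.D A) : ad (evalHom K L M) = evalHomAux K L M := by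
  rw [ad, evalHom, Equiv.symm_apply_apply]

/-- naturality of `evalTen` in the first two variables -/
lemma evalTen_nat₁₂ {K K' L L' : Dual.D A} (M : Dual.D A) (f : K ⟶ K') (g : L ⟶ L') :
    tm f ((RHomR A M).map g) ≫ evalTen K' L' M =
      evalTen K L M ≫ (RHomR A M).map (tm f g) := by
  apply ad_injective
  rw [ad_comp, ad_evalTen, ad_comp_map, ad_evalTen, evalTenAux, evalTenAux,
    Curry.associator_naturality_assoc, Category.assoc]
  congr 1
  refine (tm_comp f (𝟙 K') (tm ((RHomR A M).map g) (𝟙 M)) (ev M L')).trans ?_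
  refine Eq.trans ?_ (tm_comp (𝟙 K) f (ev M L) g).symm
  rw [tm_map_ev, Category.comp_id, Category.id_comp]

/-- naturality of `evalTen` in the third variable -/
lemma evalTen_nat₃ (K L : Dual.D A) {M M' : Dual.D A} (h : M' ⟶ M) :
    tm (𝟙 K) (RHomMap h L) ≫ evalTen K L M' =
      evalTen K L M ≫ RHomMap h ((LTen₂ A).obj (K, L)) := by
  apply ad_injective
  rw [ad_comp, ad_evalTen, ad_comp_RHomMap, ad_evalTen, evalTenAux, evalTenAux,
    Curry.associator_naturality_assoc]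
  have e : tm (𝟙 ((LTen₂ A).obj (K, (RHomR A M).obj L))) h = tm (tm (𝟙 K) (𝟙 _)) h := by
    rw [tm_id]
  rw [e, assoc_nat_assoc]
  congr 1
  refine (tm_comp (𝟙 K) (𝟙 K) (tm (RHomMap h L) (𝟙 M')) (ev M' L)).trans ?_
  refine Eq.trans ?_ (tm_comp (𝟙 K) (𝟙 K) (tm (𝟙 _) h) (ev M L)).symm
  rw [tm_RHomMap_ev]

omit [HasLTen A] [HasRHom A] [HasLTen₃ A] [IsSymMonoidal A] in
/-- The complex-level formula for `theta`. -/
lemma uncurry_theta (N F J : DRing.Cx A) :
    uncurry (ThetaHom.theta N F J) = (α_ N (DRing.homCx F J) F).hom ≫ (N ◁ evx F J) := by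
  refine cx_hom_ext₃ fun p q r pq n h₁ h₂ x g y => ?_
  refine (uncurry_tmk (ThetaHom.theta N F J) pq r n h₂ _ y).trans ?_
  refine (congrArg (fun t => ev F (N ⊗ J : DRing.Cx A) pq r n h₂ t y)
    (ThetaHom.theta_tmk N F J p q pq h₁ x g)).trans ?_
  refine (ThetaHom.evC_thetaBil N F J p q pq h₁ x g r n (q + r) h₂ rfl y).trans ?_
  refine Eq.trans ?_ (congrArg ((N ◁ evx F J).f n).hom
    (assoc_tmk N (DRing.homCx F J) F p q r pq (q + r) n h₁ h₂ rfl (by omega) x g y)).symm
  refine Eq.trans ?_ (whiskerLeft_tmk N (evx F J) p (q + r) n (by omega) x _).symm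
  exact congrArg (tmk N J p (q + r) n (by omega) x) (evx_tmk F J q r (q + r) rfl g y).symm

/-- `evalTen` on images of complexes. -/
lemma evalTen_fac (N F J : DRing.Cx A) :
    tm (𝟙 (DerivedCategory.Q.obj N)) (hc F J) ≫
      evalTen (DerivedCategory.Q.obj N) (DerivedCategory.Q.obj J) (DerivedCategory.Q.obj F) ≫
      (RHomR A (DerivedCategory.Q.obj F)).map ((ε A).app (N, J)) =
    (ε A).app (N, DRing.homCx F J) ≫ DerivedCategory.Q.map (ThetaHom.theta N F J) ≫
      hc F (N ⊗ J : DRing.Cx A) := by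
  apply ad_injective
  rw [ad_comp, ad_comp_map, ad_evalTen, ad_comp, evalTenAux]
  have e1 : ad (DerivedCategory.Q.map (ThetaHom.theta N F J) ≫ hc F (N ⊗ J : DRing.Cx A)) =
    (ε A).app (N ⊗ DRing.homCx F J, F) ≫
      DerivedCategory.Q.map (uncurry (ThetaHom.theta N F J)) := symm_comp_hc _ _ _ _
  refine Eq.trans ?_ (congrArg (fun t => tm ((ε A).app (N, DRing.homCx F J))
    (𝟙 (DerivedCategory.Q.obj F)) ≫ t) e1).symm
  rw [uncurry_theta, Category.assoc, Curry.associator_naturality_assoc, Functor.map_comp]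
  have e2 := associator_fac_assoc N (DRing.homCx F J) F (DerivedCategory.Q.map (N ◁ evx F J))
  refine Eq.trans ?_ e2
  refine congrArg (fun t => (associator (DerivedCategory.Q.obj N)
    (DerivedCategory.Q.obj (DRing.homCx F J)) (DerivedCategory.Q.obj F)).hom ≫ t) ?_
  have e3 : tm (𝟙 (DerivedCategory.Q.obj N)) (tm (hc F J) (𝟙 (DerivedCategory.Q.obj F))) ≫
      tm (𝟙 (DerivedCategory.Q.obj N)) (ev (DerivedCategory.Q.obj F) (DerivedCategory.Q.obj J)) =
      tm (𝟙 (DerivedCategory.Q.obj N)) ((ε A).app (DRing.homCx F J, F)) ≫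
        tm (𝟙 (DerivedCategory.Q.obj N)) (DerivedCategory.Q.map (evx F J)) := by
    rw [tm_comp, tm_comp, hc_fac]
  refine (reassoc_of% e3) _ |>.trans ?_
  have e4 := ε_nat_right N (evx F J)
  exact congrArg (fun t => tm (𝟙 (DerivedCategory.Q.obj N))
    ((ε A).app (DRing.homCx F J, F)) ≫ t) e4

/-- `evalTen` is an isomorphism on K-projective complexes if `theta` is. -/
lemma isIso_evalTen_Q (N F J : DRing.Cx A) [N.IsKProjective] [F.IsKProjective]
    (h : IsIso (ThetaHom.theta N F J)) :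
    IsIso (evalTen (DerivedCategory.Q.obj N) (DerivedCategory.Q.obj J)
      (DerivedCategory.Q.obj F)) := by
  have e := evalTen_fac N F J
  have h1 : IsIso ((RHomR A (DerivedCategory.Q.obj F)).map ((ε A).app (N, J))) := inferInstance
  rw [← IsIso.eq_inv_comp, ← IsIso.eq_comp_inv] at e
  rw [e]
  infer_instance

/-- Invariance of "`evalTen` is an isomorphism" under isomorphisms. -/
lemma isIso_evalTen_of_iso {K K' L L' M M' : Dual.D A} (e : K ≅ K') (f : L ≅ L') (g : M ≅ M')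
    (h : IsIso (evalTen K L M)) : IsIso (evalTen K' L' M') := by
  have h1 := evalTen_nat₁₂ M e.hom f.hom
  have h2 := evalTen_nat₃ K' L' g.inv
  have h3 : IsIso (evalTen K' L' M) := by
    rw [← IsIso.eq_inv_comp] at h1
    rw [h1]
    infer_instance
  have h4 : IsIso (RHomMap g.inv L') := by
    change IsIso (((RHom A).map g.inv.op).app L')
    infer_instance
  have h5 : IsIso (RHomMap g.inv ((LTen₂ A).obj (K', L'))) := by
    change IsIso (((RHom A).map g.inv.op).app _)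
    infer_instance
  rw [← IsIso.eq_inv_comp] at h2
  rw [h2]
  infer_instance

end K785.EvTen
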