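import Groth.Agent.LoccohB.LTenBC
import Groth.Agent.DTen.K785.Basic
import Groth.Agent.DTen.K785.Curry

/-!
# `RHomR A (Q K) (Q L)` is computed by the Hom complex

* `evx K L : Hom•(K, L) ⊗ K ⟶ L`, the evaluation map of complexes;
* `hc K L : Q Hom•(K, L) ⟶ RHomR A (Q K) (Q L)`, the adjunct of `ε ≫ Q (evx K L)` (`hc_fac`);
* `isIso_hc_of_kproj`: an isomorphism if `K` is K-projective (any `L`);
* `isIso_hc_of_kinj`: an isomorphism if `L` is K-injective (any `K`);
* `hc_post`, `hc_pre`: naturality in both variables.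
-/

set_option autoImplicit false

universe u

open CategoryTheory CategoryTheory.Limits MonoidalCategory CochainComplex CochainComplex.HomComplex

attribute [local instance] HasDerivedCategory.standard

namespace K785.HomC

open DTen Groth.Agent.LoccohB Groth.Agent.LoccohB.TenCx Basic Curry

variable {A : Type u} [CommRing A]

/-- The evaluation `Hom•(K, L) ⊗ K ⟶ L` of complexes, `g ⊗ x ↦ g x`. -/
noncomputable def evx (K L : DRing.Cx A) : (DRing.homCx K L ⊗ K : DRing.Cx A) ⟶ L :=
  uncurry (𝟙 (DRing.homCx K L))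

lemma evx_tmk (K L : DRing.Cx A) (p q n : ℤ) (h : p + q = n) (g : (DRing.homCx K L).X p)
    (x : K.X q) : ((evx K L).f n).hom (tmk (DRing.homCx K L) K p q n h g x) = ev K L p q n h g x :=
  uncurry_tmk (𝟙 (DRing.homCx K L)) p q n h g x

lemma whiskerRight_evx {X K L : DRing.Cx A} (ψ : X ⟶ DRing.homCx K L) :
    (ψ ▷ K) ≫ evx K L = uncurry ψ := (LTen.uncurry_eq ψ).symm

/-- naturality of `evx` in `L`. -/
lemma evx_post (K : DRing.Cx A) {L L' : DRing.Cx A} (f : L ⟶ L') :
    (DRing.homCxMap K f ▷ K) ≫ evx K L' = evx K L ≫ f := by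
  rw [whiskerRight_evx]
  refine cx_hom_ext fun p q n h g x => ?_
  refine (uncurry_tmk (DRing.homCxMap K f) p q n h g x).trans ?_
  refine (ev_homCxMap K f p q n h g x).trans ?_
  exact congrArg (f.f n).hom (evx_tmk K L p q n h g x).symm

/-- dinaturality of `evx` in `K`. -/
lemma evx_pre {K K' : DRing.Cx A} (g : K ⟶ K') (L : DRing.Cx A) :
    (HomCx.homCxPre g L ▷ K) ≫ evx K L = (DRing.homCx K' L ◁ g) ≫ evx K' L := by
  rw [whiskerRight_evx]
  refine cx_hom_ext fun p q n h z x => ?_
  refine (uncurry_tmk (HomCx.homCxPre g L) p q n h z x).trans ?_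
  refine (ThetaHom.evC_ofHom_comp g p q n h z x).trans ?_
  refine (evx_tmk K' L p q n h z ((g.f q).hom x)).symm.trans ?_
  exact congrArg ((evx K' L).f n).hom (whiskerLeft_tmk (DRing.homCx K' L) g p q n h z x).symm

/-- currying is injective on homotopy classes, for K-projective `P ⊗ K`. -/
lemma Q_map_curry_eq_iff' {P K L : DRing.Cx A} [P.IsKProjective] [K.IsKProjective]
    (g g' : (P ⊗ K : DRing.Cx A) ⟶ L) :
    DerivedCategory.Q.map g = DerivedCategory.Q.map g' ↔
      DerivedCategory.Q.map (curry g) = DerivedCategory.Q.map (curry g') := by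
  constructor
  · intro h
    obtain ⟨h⟩ := KDer.homotopy_of_Q_map_eq_of_isKProjective h
    exact LTen.Q_map_eq_of_homotopy (LTen.curryHomotopy h)
  · intro h
    obtain ⟨h⟩ := KDer.homotopy_of_Q_map_eq_of_isKProjective h
    have h' := LTen.Q_map_eq_of_homotopy (LTen.uncurryHomotopy h)
    rwa [LTen.uncurry_curry, LTen.uncurry_curry] at h'

variable [HasLTen A] [HasRHom A]

/-- `Q Hom•(K, L) ⟶ RHom(Q K, Q L)`. -/
noncomputable def hc (K L : DRing.Cx A) : DerivedCategory.Q.obj (DRing.homCx K L) ⟶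
    (RHomR A (DerivedCategory.Q.obj K)).obj (DerivedCategory.Q.obj L) :=
  rhomHomEquiv _ _ _ ((ε A).app (DRing.homCx K L, K) ≫ DerivedCategory.Q.map (evx K L))

/-- the characterising property of `hc`. -/
@[reassoc]
lemma hc_fac (K L : DRing.Cx A) :
    (LTen₂ A).map (Prod.mkHom (hc K L) (𝟙 (DerivedCategory.Q.obj K))) ≫
      DTen.ev (DerivedCategory.Q.obj K) (DerivedCategory.Q.obj L) =
    (ε A).app (DRing.homCx K L, K) ≫ DerivedCategory.Q.map (evx K L) := by
  rw [← rhomHomEquiv_symm_eq, hc, Equiv.symm_apply_apply]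

/-- Adjuncts of composites with `hc`. -/
lemma symm_comp_hc (K L X : DRing.Cx A) (ψ : X ⟶ DRing.homCx K L) :
    (rhomHomEquiv _ _ _).symm (DerivedCategory.Q.map ψ ≫ hc K L) =
      (ε A).app (X, K) ≫ DerivedCategory.Q.map (uncurry ψ) := by
  rw [rhomHomEquiv_symm_comp, hc, Equiv.symm_apply_apply, ← Category.assoc, ε_nat_left,
    Category.assoc, ← Functor.map_comp, whiskerRight_evx]

/-- Bijectivity criterion. -/
lemma isIso_hc_aux (K L : DRing.Cx A)
    (h1 : ∀ (P : DRing.Cx A) [P.IsKProjective] (g g' : (P ⊗ K : DRing.Cx A) ⟶ L),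
      DerivedCategory.Q.map g = DerivedCategory.Q.map g' →
        DerivedCategory.Q.map (curry g) = DerivedCategory.Q.map (curry g'))
    (h2 : ∀ (P : DRing.Cx A) [P.IsKProjective]
      (φ : DerivedCategory.Q.obj (P ⊗ K : DRing.Cx A) ⟶ DerivedCategory.Q.obj L),
      ∃ g : (P ⊗ K : DRing.Cx A) ⟶ L, DerivedCategory.Q.map g = φ) :
    IsIso (hc K L) := by
  have key : ∀ (P : DRing.Cx A) [P.IsKProjective], Function.Bijective
      (fun g : DerivedCategory.Q.obj P ⟶ DerivedCategory.Q.obj (DRing.homCx K L) =>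
        g ≫ hc K L) := by
    intro P _
    constructor
    · intro g g' hg
      obtain ⟨ψ, rfl⟩ := KDer.liftsFrom_Q P g
      obtain ⟨ψ', rfl⟩ := KDer.liftsFrom_Q P g'
      have h := congrArg (rhomHomEquiv _ _ _).symm hg
      dsimp only at h
      rw [symm_comp_hc, symm_comp_hc, cancel_epi] at h
      have h' := h1 P _ _ h
      rwa [LTen.curry_uncurry, LTen.curry_uncurry] at h'
    · intro f
      obtain ⟨g, hg⟩ := h2 P (inv ((ε A).app (P, K)) ≫ (rhomHomEquiv _ _ _).symm f)
      refine ⟨DerivedCategory.Q.map (curry g), ?_⟩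
      apply (rhomHomEquiv _ _ _).symm.injective
      dsimp only
      rw [symm_comp_hc, LTen.uncurry_curry, hg, IsIso.hom_inv_id_assoc]
  apply isIso_of_bijective
  intro X
  obtain ⟨P, hP, ⟨e⟩⟩ := LTen.exists_kproj X
  constructor
  · intro g g' hg
    have : e.hom ≫ g = e.hom ≫ g' := by
      apply (key P).1
      dsimp only at hg ⊢
      rw [Category.assoc, Category.assoc, hg]
    exact (cancel_epi e.hom).1 this
  · intro f
    obtain ⟨g, hg⟩ := (key P).2 (e.hom ≫ f)
    refine ⟨e.inv ≫ g, ?_⟩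
    dsimp only at hg ⊢
    rw [Category.assoc, hg, e.inv_hom_id_assoc]

/-- `hc K L` is an isomorphism for `K` K-projective. -/
instance isIso_hc_of_kproj (K L : DRing.Cx A) [K.IsKProjective] : IsIso (hc K L) :=
  isIso_hc_aux K L (fun _ _ g g' h => (Q_map_curry_eq_iff' g g').1 h)
    (fun P _ φ => KDer.liftsFrom_Q (P ⊗ K : DRing.Cx A) φ)

/-- `hc K L` is an isomorphism for `L` K-injective. -/
instance isIso_hc_of_kinj (K L : DRing.Cx A) [L.IsKInjective] : IsIso (hc K L) :=
  isIso_hc_aux K L (fun _ _ g g' h => (LTen.Q_map_curry_eq_iff g g').1 h)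
    (fun _ _ φ => KDer.liftsTo_Q L φ)

/-- naturality in the second variable. -/
@[reassoc]
lemma hc_post (K : DRing.Cx A) {L L' : DRing.Cx A} (f : L ⟶ L') :
    hc K L ≫ (RHomR A (DerivedCategory.Q.obj K)).map (DerivedCategory.Q.map f) =
      DerivedCategory.Q.map (DRing.homCxMap K f) ≫ hc K L' := by
  apply (rhomHomEquiv _ _ _).symm.injective
  have e := (rhomAdj A (DerivedCategory.Q.obj K)).homEquiv_naturality_right_symm
    (hc K L) (DerivedCategory.Q.map f)
  rw [symm_comp_hc]
  refine e.trans ?_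
  have e2 : ((rhomAdj A (DerivedCategory.Q.obj K)).homEquiv _ _).symm (hc K L) =
      (ε A).app (DRing.homCx K L, K) ≫ DerivedCategory.Q.map (evx K L) :=
    ((rhomAdj A (DerivedCategory.Q.obj K)).homEquiv _ _).symm_apply_apply _
  rw [e2]
  refine (Category.assoc _ _ _).trans ?_
  rw [← Functor.map_comp, ← evx_post, whiskerRight_evx]

/-- naturality in the first variable. -/
@[reassoc]
lemma hc_pre {K K' : DRing.Cx A} (g : K ⟶ K') (L : DRing.Cx A) :
    hc K' L ≫ RHomMap (DerivedCategory.Q.map g) (DerivedCategory.Q.obj L) =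
      DerivedCategory.Q.map (HomCx.homCxPre g L) ≫ hc K L := by
  apply (rhomHomEquiv _ _ _).symm.injective
  rw [symm_comp_hc, rhomHomEquiv_symm_comp, rhomHomEquiv_symm_eq, RHom_map_ev,
    ← whiskerRight_evx, evx_pre]
  have h1 : (LTen₂ A).map (Prod.mkHom (hc K' L) (𝟙 (DerivedCategory.Q.obj K))) ≫
      (LTen₂ A).map (Prod.mkHom (𝟙 _) (DerivedCategory.Q.map g)) =
      (LTen₂ A).map (Prod.mkHom (𝟙 _) (DerivedCategory.Q.map g)) ≫
      (LTen₂ A).map (Prod.mkHom (hc K' L) (𝟙 (DerivedCategory.Q.obj K'))) := by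
    rw [← Functor.map_comp, ← Functor.map_comp]
    congr 1
    refine Prod.ext ?_ ?_
    · exact (Category.comp_id _).trans (Category.id_comp _).symm
    · exact (Category.id_comp _).trans (Category.comp_id _).symm
  rw [reassoc_of% h1, hc_fac, ← Category.assoc, ε_nat_right, Category.assoc, Functor.map_comp]

end K785.HomC
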