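import Groth.Agent.DTen.K785.Basic

/-!
# The structure maps of the derived tensor product are isomorphisms

`isIso_symm_app`, `isIso_assocR_app`, `isIso_assocL_app`, `isIso_unitL_app`, `isIso_unitR_app`.
-/

set_option autoImplicit false

universe u

open CategoryTheory CategoryTheory.Limits MonoidalCategory

attribute [local instance] HasDerivedCategory.standard

namespace K785.Struct

open DTen Groth.Agent.LoccohB Basic

variable {A : Type u} [CommRing A]

/-- Every object of `D(A)` is the image of a K-projective complex. -/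
lemma exists_rep (K : Dual.D A) : ∃ P : DRing.Cx A, P.IsKProjective ∧
    Nonempty (DerivedCategory.Q.obj P ≅ K) := LTen.exists_kproj K

lemma isIso_app_of_kproj {H : Type*} [Category* H] {F G : Dual.D A ⥤ H} (τ : F ⟶ G)
    (h : ∀ (P : DRing.Cx A) [P.IsKProjective], IsIso (τ.app (DerivedCategory.Q.obj P)))
    (K : Dual.D A) : IsIso (τ.app K) := by
  obtain ⟨P, hP, ⟨e⟩⟩ := exists_rep K
  rw [← NatTrans.isIso_app_iff_of_iso τ e]
  exact h P

lemma isIso_app_of_kproj₂ {H : Type*} [Category* H] {F G : Dual.D A × Dual.D A ⥤ H} (τ : F ⟶ G)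
    (h : ∀ (P P' : DRing.Cx A) [P.IsKProjective] [P'.IsKProjective],
      IsIso (τ.app ((QQ A).obj (P, P'))))
    (X : Dual.D A × Dual.D A) : IsIso (τ.app X) := by
  obtain ⟨K, L⟩ := X
  obtain ⟨P, hP, ⟨e⟩⟩ := exists_rep K
  obtain ⟨P', hP', ⟨e'⟩⟩ := exists_rep L
  rw [← NatTrans.isIso_app_iff_of_iso τ (Iso.prod e e')]
  exact h P P'

lemma isIso_app_of_kproj₃ {H : Type*} [Category* H]
    {F G : Dual.D A × (Dual.D A × Dual.D A) ⥤ H} (τ : F ⟶ G)
    (h : ∀ (P P' P'' : DRing.Cx A) [P.IsKProjective] [P'.IsKProjective] [P''.IsKProjective],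
      IsIso (τ.app ((QQQ A).obj (P, (P', P'')))))
    (X : Dual.D A × (Dual.D A × Dual.D A)) : IsIso (τ.app X) := by
  obtain ⟨K, L, M⟩ := X
  obtain ⟨P, hP, ⟨e⟩⟩ := exists_rep K
  obtain ⟨P', hP', ⟨e'⟩⟩ := exists_rep L
  obtain ⟨P'', hP'', ⟨e''⟩⟩ := exists_rep M
  rw [← NatTrans.isIso_app_iff_of_iso τ (Iso.prod e (Iso.prod e' e''))]
  exact h P P' P''

variable [HasLTen A]

theorem isIso_symm_app (X : Dual.D A × Dual.D A) : IsIso ((DTen.symm A).app X) := by
  apply isIso_app_of_kproj₂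
  intro P P' _ _
  have h := symm_fac A P P'
  have h2 : (DTen.symm A).app (DerivedCategory.Q.obj P, DerivedCategory.Q.obj P') =
      ((ε A).app (P', P) ≫ DerivedCategory.Q.map (braidCx P' P).hom) ≫ inv ((ε A).app (P, P')) := by
    rw [IsIso.eq_comp_inv]
    exact h
  change IsIso ((DTen.symm A).app (DerivedCategory.Q.obj P, DerivedCategory.Q.obj P'))
  rw [h2]
  infer_instance

variable [HasLTen₃ A]

omit [HasLTen A] [HasLTen₃ A] in
/-- `Prod.mkHom` of isomorphisms is an isomorphism -/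
lemma isIso_mkHom {X X' Y Y' : Dual.D A} (f : X ⟶ Y) (g : X' ⟶ Y') [IsIso f] [IsIso g] :
    IsIso (Prod.mkHom f g) := by
  rw [CategoryTheory.isIso_prod_iff]
  exact ⟨‹_›, ‹_›⟩

theorem isIso_assocR_app (X : Dual.D A × (Dual.D A × Dual.D A)) : IsIso ((assocR A).app X) := by
  apply isIso_app_of_kproj₃
  intro P P' P'' _ _ _
  have h := assocR_fac A (P, (P', P''))
  have h1 : IsIso ((βR A).app (P, (P', P''))) := by
    have := isIso_mkHom (𝟙 (DerivedCategory.Q.obj P)) ((ε A).app (P', P''))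
    change IsIso ((LTen₂ A).map (Prod.mkHom (𝟙 (DerivedCategory.Q.obj P)) ((ε A).app (P', P''))) ≫
      (ε A).app (P, P' ⊗ P''))
    infer_instance
  have h2 : (assocR A).app ((QQQ A).obj (P, (P', P''))) =
      (βR A).app (P, (P', P'')) ≫ inv ((ε₃ A).app (P, (P', P''))) := by
    rw [IsIso.eq_comp_inv]
    exact h
  rw [h2]
  infer_instance

theorem isIso_assocL_app (X : Dual.D A × (Dual.D A × Dual.D A)) : IsIso ((assocL A).app X) := by
  apply isIso_app_of_kproj₃
  intro P P' P'' _ _ _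
  have h := assocL_fac A (P, (P', P''))
  have h1 : IsIso ((βL A).app (P, (P', P''))) := by
    have := isIso_mkHom ((ε A).app (P, P')) (𝟙 (DerivedCategory.Q.obj P''))
    change IsIso ((LTen₂ A).map (Prod.mkHom ((ε A).app (P, P')) (𝟙 (DerivedCategory.Q.obj P''))) ≫
      (ε A).app (P ⊗ P', P'') ≫ DerivedCategory.Q.map (α_ P P' P'').hom)
    infer_instance
  have h2 : (assocL A).app ((QQQ A).obj (P, (P', P''))) =
      (βL A).app (P, (P', P'')) ≫ inv ((ε₃ A).app (P, (P', P''))) := by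
    rw [IsIso.eq_comp_inv]
    exact h
  rw [h2]
  infer_instance

end K785.Struct
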