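import Groth.Agent.DTen.K785.PowFac
import Groth.Agent.DTen.K785.EvTenMain
import Groth.Agent.DTen.K785.Struct
import Groth.Agent.LoccohB.HomCxHD

/-!
# Perfect objects with `RHom(L, L) = A` are invertible
-/

set_option autoImplicit false
universe u

open CategoryTheory CategoryTheory.Limits MonoidalCategory CochainComplex CochainComplex.HomComplex

attribute [local instance] HasDerivedCategory.standard

namespace K785.InvCrit

open DTen DerivedCategory Groth.Agent.LoccohB Groth.Agent.LoccohB.TenCx Groth.Agent.LoccohB.InjRep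
  Groth.Agent.LoccohB.HomCxHD Groth.Agent.LoccohB.ThetaHom PowFac

variable {A : Type u} [CommRing A]

lemma ofHom_v_of_eq {E : DRing.Cx A} (p q : ℤ) (h : p + 0 = q) :
    (Cochain.ofHom (𝟙 E)).v p q h = (E.XIsoOfEq (by omega)).hom := by
  obtain rfl : p = q := by omega
  simp [HomologicalComplex.XIsoOfEq]

lemma equivHomShift_one (E : DRing.Cx A) :
    (Cocycle.equivHomShift.symm (Cocycle.ofHom (𝟙 E)) : E ⟶ E⟦(0 : ℤ)⟧) =
      (shiftFunctorZero _ ℤ).inv.app E := by
  ext p : 1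
  rw [Cocycle.equivHomShift_symm_apply, CochainComplex.shiftFunctorZero_inv_app_f]
  simp only [CochainComplex.shiftFunctor_obj_X', Cocycle.homOf_f, Cocycle.rightShift_coe,
    Cochain.rightShift_v _ _ _ _ _ _ _ _ rfl]
  refine (congrArg (fun z => z ≫ (shiftFunctorObjXIso E 0 p (p + 0) (by omega)).inv)
    (ofHom_v_of_eq (E := E) p (p + 0) rfl)).trans ?_
  simp only [shiftFunctorObjXIso, HomologicalComplex.XIsoOfEq_rfl, Iso.refl_inv]
  exact Category.comp_id _

instance isIso_ofCocycle_one (E : DRing.Cx A) :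
    IsIso (ofCocycle (Cocycle.ofHom (𝟙 E))) := by
  unfold ofCocycle
  rw [equivHomShift_one]
  infer_instance

/-- The inclusion of `A` in the degree zero term of the unit complex. -/
noncomputable def inc1 : A →ₗ[A] (𝟙_ (DRing.Cx A) : DRing.Cx A).X 0 :=
  (HomologicalComplex.singleObjXSelf (ComplexShape.up ℤ) 0 (𝟙_ (ModuleCat.{u} A))).inv.hom

lemma inc1_bijective : Function.Bijective (inc1 (A := A)) :=
  (ConcreteCategory.isIso_iff_bijective
    (HomologicalComplex.singleObjXSelf (ComplexShape.up ℤ) 0 (𝟙_ (ModuleCat.{u} A))).inv).1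
    inferInstance

lemma inc1_apply (a : A) : inc1 a = a • (u1 : (𝟙_ (DRing.Cx A) : DRing.Cx A).X 0) := by
  rw [show a = a • (1 : A) by rw [smul_eq_mul, mul_one], map_smul, smul_eq_mul, mul_one]
  rfl

/-- The unit map. -/
noncomputable def unitMap (E : DRing.Cx A) : 𝟙_ (DRing.Cx A) ⟶ DRing.homCx E E :=
  curry (λ_ E).hom

/-- The family of cocycles `a ↦ a • 1`. -/
def scal (E : DRing.Cx A) : A →ₗ[A] Cocycle E E 0 :=
  LinearMap.toSpanSingleton A _ (Cocycle.ofHom (𝟙 E))

lemma unitMap_inc1 (E : DRing.Cx A) (a : A) :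
    ((unitMap E).f 0).hom (inc1 a) = incl E E 0 (scal E a) := by
  refine ext_ev (fun q n h y => ?_)
  obtain rfl : q = n := by omega
  rw [inc1_apply, map_smul, map_smul, LinearMap.smul_apply, unitMap, ev_curry]
  have h1 : ((λ_ E).hom.f q).hom (tmk (𝟙_ (DRing.Cx A)) E 0 q q h u1 y) = y := by
    rw [← PowFac.leftUnitor_inv_apply]
    exact congr(($((λ_ E).inv_hom_id).f q).hom y)
  rw [h1]
  change _ = ((a • Cochain.ofHom (𝟙 E) : Cochain E E 0).v q q (by omega)).hom y
  rw [Cochain.smul_v, Cochain.ofHom_v]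
  rfl

lemma unit_d (a : A) : ((𝟙_ (DRing.Cx A) : DRing.Cx A).d 0 (0 + 1)).hom (inc1 a) = 0 := by
  have : (𝟙_ (DRing.Cx A) : DRing.Cx A).d 0 (0 + 1) = 0 := HomologicalComplex.single_obj_d _ _ _ _ _
  rw [this]
  rfl

lemma cls_inc1_bijective :
    Function.Bijective (cls (𝟙_ (DRing.Cx A) : DRing.Cx A) 0 inc1 unit_d) := by
  refine ⟨(injective_iff_map_eq_zero _).2 fun a ha => ?_, ?_⟩
  · obtain ⟨y, hy⟩ := (cls_eq_zero_iff _ _ _ _ a (-1) (by simp)).1 ha
    have : (𝟙_ (DRing.Cx A) : DRing.Cx A).d (-1) 0 = 0 := HomologicalComplex.single_obj_d _ _ _ _ _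
    rw [this] at hy
    exact inc1_bijective.1 (hy.symm.trans (map_zero _).symm)
  · exact cls_surjective _ _ _ _ fun y _ => inc1_bijective.2 y

/-- If `Hom(E, E[i]) = 0` for `i ≠ 0` and `End(E) = A`, then `A ⟶ RHom(E, E)` is an isomorphism. -/
theorem quasiIso_unitMap (E : DRing.Cx A) [E.IsKProjective]
    (h0 : ∀ i : ℤ, i ≠ 0 → Subsingleton (Q.obj E ⟶ (Q.obj E)⟦i⟧))
    (h1 : Function.Bijective (fun a : A => a • 𝟙 (Q.obj E))) : QuasiIso (unitMap E) := by
  rw [quasiIso_iff]
  intro i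
  rw [quasiIsoAt_iff_isIso_homologyMap]
  have hC : Computes E E := computes_of_isKProjective E E
  by_cases hi : i = 0
  · subst hi
    rw [ConcreteCategory.isIso_iff_bijective]
    have e1 : ∀ a : A, (HomologicalComplex.homologyMap (unitMap E) 0).hom
        (cls (𝟙_ (DRing.Cx A) : DRing.Cx A) 0 inc1 unit_d a) =
        clsCocycle E E 0 (scal E a) := by
      intro a
      refine (homologyMap_cls _ _ _ _ (unitMap E) ((incl E E 0) ∘ₗ scal E)
        (fun x => d_incl E E 0 (scal E x)) (fun x => unitMap_inc1 E x) a).trans ?_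
      exact cls_comp _ _ _ _ _ _
    have e2 : ∀ a : A, homologyEquiv E E 0 hC (clsCocycle E E 0 (scal E a)) =
        (a • 𝟙 (Q.obj E)) ≫ ofCocycle (Cocycle.ofHom (𝟙 E)) := by
      intro a
      rw [homologyEquiv_clsCocycle, Linear.smul_comp, Category.id_comp]
      exact (ofCocycleLin E E 0).map_smul a (Cocycle.ofHom (𝟙 E))
    have hb : Function.Bijective (fun f : Q.obj E ⟶ Q.obj E =>
        f ≫ ofCocycle (Cocycle.ofHom (𝟙 E))) := by
      constructor
      · intro f g hfg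
        exact (cancel_mono _).1 hfg
      · intro g
        exact ⟨g ≫ inv (ofCocycle (Cocycle.ofHom (𝟙 E))), by simp⟩
    have h2 : Function.Bijective (fun a : A => homologyEquiv E E 0 hC
        ((HomologicalComplex.homologyMap (unitMap E) 0).hom
          (cls (𝟙_ (DRing.Cx A) : DRing.Cx A) 0 inc1 unit_d a))) := by
      have : (fun a : A => homologyEquiv E E 0 hC
        ((HomologicalComplex.homologyMap (unitMap E) 0).hom
          (cls (𝟙_ (DRing.Cx A) : DRing.Cx A) 0 inc1 unit_d a))) =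
          (fun f : Q.obj E ⟶ Q.obj E => f ≫ ofCocycle (Cocycle.ofHom (𝟙 E))) ∘
            (fun a : A => a • 𝟙 (Q.obj E)) := by
        funext a
        rw [e1, e2]
        rfl
      rw [this]
      exact hb.comp h1
    have h3 : Function.Bijective ((HomologicalComplex.homologyMap (unitMap E) 0).hom ∘
        (cls (𝟙_ (DRing.Cx A) : DRing.Cx A) 0 inc1 unit_d)) :=
      (Function.Bijective.of_comp_iff' (homologyEquiv E E 0 hC).bijective _).1 h2
    exact (Function.Bijective.of_comp_iff _ cls_inc1_bijective).1 h3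
  · have z1 : IsZero ((𝟙_ (DRing.Cx A) : DRing.Cx A).homology i) :=
      HomologicalComplex.isZero_single_obj_homology _ _ _ _ hi
    have := h0 i hi
    have z2 : Subsingleton ((DRing.homCx E E).homology i) :=
      (homologyEquiv E E i hC).toEquiv.subsingleton
    have z3 : IsZero ((DRing.homCx E E).homology i) := ModuleCat.isZero_of_subsingleton _
    exact z1.isIso z3 _

/-- Perfect objects with `RHom(L, L) = A` are invertible. -/
theorem isInvertible [HasLTen A] (L : Dual.D A) (hL : DRing.IsPerfect A L)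
    (h0 : ∀ i : ℤ, i ≠ 0 → Subsingleton (L ⟶ L⟦i⟧))
    (h1 : Function.Bijective (fun a : A => a • 𝟙 L)) : DTen.IsInvertible A L := by
  obtain ⟨E, hE, ⟨D⟩, ⟨e⟩⟩ := EvTenMain.exists_perfect_rep hL
  have h0' : ∀ i : ℤ, i ≠ 0 → Subsingleton (Q.obj E ⟶ (Q.obj E)⟦i⟧) := fun i hi => by
    have := h0 i hi
    exact (Iso.homCongr e ((CategoryTheory.shiftFunctor _ i).mapIso e)).subsingleton
  have h1' : Function.Bijective (fun a : A => a • 𝟙 (Q.obj E)) := by
    have h2 : (fun a : A => a • 𝟙 (Q.obj E)) =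
        (fun f => e.hom ≫ f ≫ e.inv) ∘ (fun a : A => a • 𝟙 L) := by
      funext a
      change _ = e.hom ≫ (a • 𝟙 L) ≫ e.inv
      rw [Linear.smul_comp, Linear.comp_smul, Category.id_comp, e.hom_inv_id]
    rw [h2]
    exact (Iso.homCongr e e).symm.bijective.comp h1
  have hq := quasiIso_unitMap E h0' h1'
  have hθ : IsIso (theta E E (𝟙_ (DRing.Cx A))) := isIso_theta E D (𝟙_ (DRing.Cx A))
  let W : DRing.Cx A := DRing.homCx E (𝟙_ (DRing.Cx A))
  have i1 : Q.obj (E ⊗ W : DRing.Cx A) ≅ unit A :=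
    Q.mapIso (asIso (theta E E (𝟙_ (DRing.Cx A)))) ≪≫
      Q.mapIso ((DRing.homCxFunctor E).mapIso (ρ_ E)) ≪≫ (asIso (Q.map (unitMap E))).symm
  have i2 : (LTen₂ A).obj (Q.obj E, Q.obj W) ≅ unit A :=
    asIso ((ε A).app (E, W)) ≪≫ i1
  have i3 : (LTen₂ A).obj (L, Q.obj W) ≅ unit A :=
    (LTen₂ A).mapIso (Iso.prod e.symm (Iso.refl _)) ≪≫ i2
  have hs : IsIso ((DTen.symm A).app (L, Q.obj W)) := Struct.isIso_symm_app _
  exact ⟨Q.obj W, ⟨i3⟩, ⟨asIso ((DTen.symm A).app (L, Q.obj W)) ≪≫ i3⟩⟩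

end K785.InvCrit
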