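import Groth.Agent.DTen.K785.EvHom

/-!
# `kap : Hom•(L, J) ⊗ P ⟶ Hom•(Hom•(P, L), J)` is an isomorphism under finiteness hypotheses
-/

set_option autoImplicit false

universe u

open CategoryTheory CategoryTheory.Limits MonoidalCategory CochainComplex CochainComplex.HomComplex

attribute [local instance] HasDerivedCategory.standard

namespace K785.KapIso

open Groth.Agent.LoccohB Groth.Agent.LoccohB.TenCx ThetaHom EvHom

variable {A : Type u} [CommRing A]

/-- A system of finite dual bases of the terms of a complex, no boundedness. -/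
structure DB (P : DRing.Cx A) where
  /-- ranks -/
  r : ℤ → ℕ
  /-- vectors -/
  U : ∀ q, Fin (r q) → P.X q
  /-- covectors -/
  V : ∀ q, Fin (r q) → (P.X q →ₗ[A] A)
  sum_eq : ∀ (q : ℤ) (y : P.X q), ∑ k, V q k y • U q k = y

lemma exists_DB (P : DRing.Cx A) (h' : DRing.TermwiseFiniteProjective P) : Nonempty (DB P) := by
  have key : ∀ q, ∃ (r : ℕ) (u : Fin r → P.X q) (v : Fin r → (P.X q →ₗ[A] A)),
      ∀ y, ∑ k, v k y • u k = y := fun q => by
    have := (h' q).1
    have := (h' q).2
    exact exists_dualBasis (P.X q)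
  choose r U V hUV using key
  exact ⟨⟨r, U, V, hUV⟩⟩

/-- The finiteness conditions. -/
structure Fin3 (P L J : DRing.Cx A) where
  /-- finite sets of degrees -/
  S : ℤ → Finset ℤ
  /-- finite sets of degrees -/
  T : ℤ → Finset ℤ
  hS : ∀ (n m q : ℤ), m + q = n → q ∉ S n →
    (∀ x : P.X q, x = 0) ∨ (∀ f : Cochain L J m, f = 0)
  hT : ∀ (m s q : ℤ), m + q = s → q ∉ T m → (∀ x : P.X q, x = 0) ∨ (∀ l : L.X s, l = 0)

variable {P : DRing.Cx A} (D : DB P) (L J : DRing.Cx A)

/-- `z ↦ (l ↦ (-1)^{q (i - q)} z (v ⊠ l))` -/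
noncomputable def fC {q : ℤ} (v : P.X q →ₗ[A] A) (m n : ℤ) (h : m + q = n) :
    Cochain (DRing.homCx P L) J n →ₗ[A] Cochain L J m where
  toFun z := mkC L J m fun i j hij => (q * (i - q)).negOnePow •
    ((evC (DRing.homCx P L) J n (i - q) j (by omega) z) ∘ₗ
      (box' P L (s := i) (i - q) (by omega) v))
  map_add' z z' := by
    refine ext_evC fun i j hij y => ?_
    rw [evC_mkC, map_add (evC L J m i j hij), LinearMap.add_apply, evC_mkC, evC_mkC]
    simp only [map_add, LinearMap.comp_apply, LinearMap.add_apply, LinearMap.smul_apply, smul_add]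
  map_smul' a z := by
    refine ext_evC fun i j hij y => ?_
    rw [evC_mkC, RingHom.id_apply, map_smul (evC L J m i j hij)]
    refine Eq.trans ?_ (LinearMap.smul_apply a _ y).symm
    rw [evC_mkC]
    simp only [map_smul, LinearMap.comp_apply, LinearMap.smul_apply]
    rw [smul_comm]

lemma evC_fC {q : ℤ} (v : P.X q →ₗ[A] A) (m n : ℤ) (h : m + q = n)
    (z : Cochain (DRing.homCx P L) J n) (i j s : ℤ) (hij : m + i = j) (hs : s + q = i)
    (hj : n + s = j) (l : L.X i) :
    evC L J m i j hij (fC L J v m n h z) l = (q * s).negOnePow •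
      evC (DRing.homCx P L) J n s j hj z (box' P L s hs v l) := by
  obtain rfl : s = i - q := by omega
  exact evC_mkC L J m _ i j hij l

/-- the inverse of `kap`. -/
noncomputable def kInv (S : ℤ → Finset ℤ) (n : ℤ) :
    Cochain (DRing.homCx P L) J n →ₗ[A] (DRing.homCx L J ⊗ P : DRing.Cx A).X n :=
  ∑ q ∈ S n, ∑ k, (tmk (DRing.homCx L J) P (n - q) q n (by omega)).flip (D.U q k) ∘ₗ
    (fC L J (D.V q k) (n - q) n (by omega))

lemma kInv_apply (S : ℤ → Finset ℤ) (n : ℤ) (z : Cochain (DRing.homCx P L) J n) :
    kInv D L J S n z = ∑ q ∈ S n, ∑ k,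
      tmk (DRing.homCx L J) P (n - q) q n (by omega)
        (fC L J (D.V q k) (n - q) n (by omega) z) (D.U q k) := by
  unfold kInv
  rw [LinearMap.sum_apply]
  refine Finset.sum_congr rfl fun p _ => ?_
  rw [LinearMap.sum_apply]
  rfl

/-- `kap` with values in cochains -/
noncomputable def kapC (m p n : ℤ) (h : m + p = n) (f : Cochain L J m) (x : P.X p) :
    Cochain (DRing.homCx P L) J n :=
  ((kap L J P).f n).hom (tmk (DRing.homCx L J) P m p n h f x)

lemma evC_kapC (m p n : ℤ) (h : m + p = n) (f : Cochain L J m) (x : P.X p) (q r s : ℤ)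
    (h₂ : n + q = r) (h₃ : q + p = s) (g : Cochain P L q) :
    evC (DRing.homCx P L) J n q r h₂ (kapC L J m p n h f x) g =
      (p * q).negOnePow • evC L J m s r (by omega) f (evC P L q p s h₃ g x) :=
  ev_kap L J P m p q n s r h h₂ h₃ f x g

/-- a cochain decomposes along dual bases -/
lemma sum_box' (T : Finset ℤ) (m : ℤ)
    (hT : ∀ (s q : ℤ), m + q = s → q ∉ T → (∀ x : P.X q, x = 0) ∨ (∀ l : L.X s, l = 0))
    (g : Cochain P L m) :
    ∑ q ∈ T, ∑ k, box P L (s := m + q) m rfl (D.V q k)
      (evC P L m q (m + q) rfl g (D.U q k)) = g := by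
  refine ext_evC fun q' s' h' y => ?_
  subst h'
  rw [map_sum, LinearMap.sum_apply]
  by_cases hq : q' ∈ T
  · rw [Finset.sum_eq_single q' (fun q _ hqq => ?_) (fun h => absurd hq h)]
    · rw [map_sum, LinearMap.sum_apply]
      conv_rhs => rw [← D.sum_eq q' y, map_sum]
      refine Finset.sum_congr rfl fun k _ => ?_
      rw [map_smul]
      exact evC_boxC P L rfl (D.V q' k) _ y
    · rw [map_sum, LinearMap.sum_apply]
      refine Finset.sum_eq_zero fun k _ => ?_
      exact evC_boxC_ne P L rfl (Ne.symm hqq) (D.V q k) _ y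
  · have hy : ∀ g : Cochain P L m, evC P L m q' (m + q') rfl g y = 0 := by
      intro g
      rcases hT (m + q') q' rfl hq with h | h
      · rw [h y, map_zero]
      · exact h _
    rw [hy]
    refine Finset.sum_eq_zero fun q _ => ?_
    rw [hy]

variable {L J} in
lemma kap_kInv (F : Fin3 P L J) (n : ℤ) (z : Cochain (DRing.homCx P L) J n) :
    ((kap L J P).f n).hom (kInv D L J F.S n z) = z := by
  rw [kInv_apply, map_sum]
  refine ext_evC fun m r h g => ?_
  have e1 : evC (DRing.homCx P L) J n m r h
      (∑ q ∈ F.S n, ((kap L J P).f n).hom (∑ k, tmk (DRing.homCx L J) P (n - q) q n (by omega)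
        (fC L J (D.V q k) (n - q) n (by omega) z) (D.U q k))) g =
      ∑ q ∈ F.S n, evC (DRing.homCx P L) J n m r h
        (((kap L J P).f n).hom (∑ k, tmk (DRing.homCx L J) P (n - q) q n (by omega)
        (fC L J (D.V q k) (n - q) n (by omega) z) (D.U q k))) g :=
    map_sum (((evC (DRing.homCx P L) J n m r h)).flip g) _ _
  refine e1.trans ?_
  have e2 : ∀ q : ℤ, evC (DRing.homCx P L) J n m r h
        (((kap L J P).f n).hom (∑ k, tmk (DRing.homCx L J) P (n - q) q n (by omega)
        (fC L J (D.V q k) (n - q) n (by omega) z) (D.U q k))) g =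
      ∑ k, evC (DRing.homCx P L) J n m r h z
        (box P L (s := m + q) m rfl (D.V q k) (evC P L m q (m + q) rfl g (D.U q k))) := by
    intro q
    rw [map_sum]
    have e3 : evC (DRing.homCx P L) J n m r h
        (∑ k, ((kap L J P).f n).hom (tmk (DRing.homCx L J) P (n - q) q n (by omega)
        (fC L J (D.V q k) (n - q) n (by omega) z) (D.U q k))) g =
        ∑ k, evC (DRing.homCx P L) J n m r h
        (((kap L J P).f n).hom (tmk (DRing.homCx L J) P (n - q) q n (by omega)
        (fC L J (D.V q k) (n - q) n (by omega) z) (D.U q k))) g :=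
      map_sum (((evC (DRing.homCx P L) J n m r h)).flip g) _ _
    refine e3.trans (Finset.sum_congr rfl fun k _ => ?_)
    refine (evC_kapC L J (n - q) q n (by omega) (fC L J (D.V q k) (n - q) n (by omega) z)
      (D.U q k) m r (m + q) h rfl g).trans ?_
    rw [evC_fC L J (D.V q k) (n - q) n (by omega) z (m + q) r m (by omega) rfl h, smul_smul,
      Int.units_mul_self, one_smul]
    rfl
  simp only [e2]
  have e4 : ∀ q ∉ F.S n, ∑ k, evC (DRing.homCx P L) J n m r h z
        (box P L (s := m + q) m rfl (D.V q k) (evC P L m q (m + q) rfl g (D.U q k))) = 0 := by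
    intro q hq
    refine Finset.sum_eq_zero fun k _ => ?_
    rcases F.hS n (n - q) q (by omega) hq with hx | hf
    · rw [hx (D.U q k), map_zero]
      refine (congrArg (evC (DRing.homCx P L) J n m r h z) (map_zero (box P L (s := m + q) m rfl
        (D.V q k)))).trans (map_zero _)
    · have h0 := hf (fC L J (D.V q k) (n - q) n (by omega) z)
      have h1 := evC_fC L J (D.V q k) (n - q) n (by omega) z (m + q) r m (by omega) rfl h
        (evC P L m q (m + q) rfl g (D.U q k))
      rw [h0, map_zero, LinearMap.zero_apply] at h1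
      exact (smul_eq_zero_iff_eq _).1 h1.symm
  have e5 : ∀ q ∉ F.T m, ∑ k, evC (DRing.homCx P L) J n m r h z
        (box P L (s := m + q) m rfl (D.V q k) (evC P L m q (m + q) rfl g (D.U q k))) = 0 := by
    intro q hq
    refine Finset.sum_eq_zero fun k _ => ?_
    have h0 : evC P L m q (m + q) rfl g (D.U q k) = 0 := by
      rcases F.hT m (m + q) q rfl hq with hx | hl
      · rw [hx (D.U q k), map_zero]
      · exact hl _
    rw [h0]
    exact (congrArg (evC (DRing.homCx P L) J n m r h z) (map_zero (box P L (s := m + q) m rfl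
        (D.V q k)))).trans (map_zero _)
  have e6 := Finset.sum_subset (Finset.subset_union_left (s₁ := F.S n) (s₂ := F.T m))
    (fun q _ hq => e4 q hq)
  have e7 := Finset.sum_subset (Finset.subset_union_right (s₁ := F.S n) (s₂ := F.T m))
    (fun q _ hq => e5 q hq)
  rw [e6, ← e7]
  conv_rhs => rw [← sum_box' D L (F.T m) m (fun s q => F.hT m s q) g]
  refine Eq.trans ?_ (map_sum (evC (DRing.homCx P L) J n m r h z) _ _).symm
  refine Finset.sum_congr rfl fun q _ => ?_
  exact (map_sum (evC (DRing.homCx P L) J n m r h z) _ _).symm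

lemma fC_kapC {q : ℤ} (v : P.X q →ₗ[A] A) (m n : ℤ) (h : m + q = n) (f : Cochain L J m)
    (x : P.X q) : fC L J v m n h (kapC L J m q n h f x) = v x • f := by
  refine ext_evC fun i j hij l => ?_
  rw [evC_fC L J v m n h _ i j (i - q) hij (by omega) (by omega)]
  refine (congrArg (fun t => (q * (i - q)).negOnePow • t)
    (evC_kapC L J m q n h f x (i - q) j i (by omega) (by omega)
      (box' P L (i - q) (by omega) v l))).trans ?_
  rw [smul_smul, Int.units_mul_self, one_smul, map_smul, LinearMap.smul_apply]
  refine (congrArg (evC L J m i j hij f) (evC_boxC P L (by omega) v l x)).trans ?_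
  rw [map_smul]

lemma fC_kapC_ne {q : ℤ} (v : P.X q →ₗ[A] A) (m n p m' : ℤ) (h : m + q = n) (h' : m' + p = n)
    (hp : p ≠ q) (f : Cochain L J m') (x : P.X p) :
    fC L J v m n h (kapC L J m' p n h' f x) = 0 := by
  refine ext_evC fun i j hij l => ?_
  rw [evC_fC L J v m n h _ i j (i - q) hij (by omega) (by omega), map_zero,
    LinearMap.zero_apply]
  refine (congrArg (fun t => (q * (i - q)).negOnePow • t)
    (evC_kapC L J m' p n h' f x (i - q) j (i - q + p) (by omega) rfl
      (box' P L (i - q) (by omega) v l))).trans ?_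
  have e : evC P L (i - q) p (i - q + p) rfl (box' P L (i - q) (by omega) v l) x = 0 :=
    evC_boxC_ne P L rfl hp v l x
  rw [e, map_zero, smul_zero, smul_zero]

variable {L J} in
lemma kInv_kap (F : Fin3 P L J) (n : ℤ) (t : (DRing.homCx L J ⊗ P : DRing.Cx A).X n) :
    kInv D L J F.S n (((kap L J P).f n).hom t) = t := by
  have : (kap L J P).f n ≫ ModuleCat.ofHom (X := (DRing.homCx (DRing.homCx P L) J).X n)
      (kInv D L J F.S n) = 𝟙 _ := by
    refine hom_ext_tmk fun m' p h f x => ?_
    obtain rfl : m' = n - p := by omega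
    refine (kInv_apply D L J F.S n (kapC L J (n - p) p n h f x)).trans ?_
    change _ = tmk (DRing.homCx L J) P (n - p) p n h f x
    by_cases hp : p ∈ F.S n
    · rw [Finset.sum_eq_single p (fun q _ hqq => ?_) (fun h => absurd hp h)]
      · conv_rhs => rw [← D.sum_eq p x, map_sum]
        refine Finset.sum_congr rfl fun k _ => ?_
        refine (congrArg (fun t => tmk (DRing.homCx L J) P (n - p) p n h t (D.U p k))
          (fC_kapC L J (D.V p k) (n - p) n h f x)).trans ?_
        refine (congrArg (fun t => t (D.U p k))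
          (map_smul (tmk (DRing.homCx L J) P (n - p) p n h) (D.V p k x) f)).trans ?_
        rw [LinearMap.smul_apply]
        exact (map_smul (tmk (DRing.homCx L J) P (n - p) p n h f) (D.V p k x) (D.U p k)).symm
      · refine Finset.sum_eq_zero fun k _ => ?_
        refine (congrArg (fun t => tmk (DRing.homCx L J) P (n - q) q n (by omega) t (D.U q k))
          (fC_kapC_ne L J (D.V q k) (n - q) n p (n - p) (by omega) h (Ne.symm hqq) f x)).trans ?_
        exact congrArg (fun t => t (D.U q k))
          (map_zero (tmk (DRing.homCx L J) P (n - q) q n (by omega)))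
    · have e0 : kapC L J (n - p) p n h f x = 0 ∧ tmk (DRing.homCx L J) P (n - p) p n h f x = 0 := by
        have e1 : tmk (DRing.homCx L J) P (n - p) p n h f x = 0 := by
          rcases F.hS n (n - p) p h hp with hx | hf
          · rw [hx x, map_zero]
          · rw [hf f]
            exact congrArg (fun t => t x) (map_zero (tmk (DRing.homCx L J) P (n - p) p n h))
        exact ⟨(congrArg ((kap L J P).f n).hom e1).trans (map_zero _), e1⟩
      rw [e0.2, e0.1]
      refine Finset.sum_eq_zero fun q _ => Finset.sum_eq_zero fun k _ => ?_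
      rw [map_zero]
      exact congrArg (fun t => t (D.U q k))
          (map_zero (tmk (DRing.homCx L J) P (n - q) q n (by omega)))
  exact congr($(this).hom t)

include D in
variable {L J} in
/-- `kap` is an isomorphism under the finiteness conditions `Fin3`. -/
lemma isIso_kap (F : Fin3 P L J) : IsIso (kap L J P) := by
  have : ∀ n, IsIso ((kap L J P).f n) := fun n => by
    rw [ConcreteCategory.isIso_iff_bijective]
    exact ⟨Function.LeftInverse.injective (g := kInv D L J F.S n) (kInv_kap D F n),
      Function.RightInverse.surjective (g := kInv D L J F.S n) (kap_kInv D F n)⟩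
  exact HomologicalComplex.Hom.isIso_of_components _

end K785.KapIso
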