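import Groth.Agent.DTen.K785.ProMain
import Groth.Agent.Dcoh.KFlatSES
import Groth.Agent.DTen.K785.Assoc
import Groth.Prelude.Def_DTen
import Mathlib.RingTheory.Flat.CategoryTheory

/-!
# `I^n M ⟶ M` factors through `I ⊗ᴸ M ⟶ M`
-/

set_option autoImplicit false
universe u

open CategoryTheory CategoryTheory.Limits MonoidalCategory Opposite Pretriangulated

attribute [local instance] HasDerivedCategory.standard

namespace K785.PowFac

open ProMain QxTen QxSES Qx DTen DerivedCategory Groth.Agent.LoccohB.TenCx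

variable (A : Type u) [CommRing A]

/-- A module in degree `0`. -/
noncomputable abbrev sg (M : Type u) [AddCommGroup M] [Module A M] : DRing.Cx A :=
  (HomologicalComplex.single (ModuleCat.{u} A) (ComplexShape.up ℤ) 0).obj (ModuleCat.of A M)

variable {A}

/-- A linear map in degree `0`. -/
noncomputable abbrev sgm {M M' : Type u} [AddCommGroup M] [Module A M] [AddCommGroup M']
    [Module A M'] (f : M →ₗ[A] M') : sg A M ⟶ sg A M' :=
  (HomologicalComplex.single (ModuleCat.{u} A) (ComplexShape.up ℤ) 0).map (ModuleCat.ofHom f)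

/-- `A ⟶ A/J` in degree zero. -/
noncomputable def qJ (J : Ideal A) : 𝟙_ (DRing.Cx A) ⟶ Bq J :=
  sgm (Submodule.mkQ (J • (⊤ : Submodule A A)))

/-- `I ⟶ A` in degree zero. -/
noncomputable def iJ (I : Ideal A) : sg A I ⟶ 𝟙_ (DRing.Cx A) := sgm I.subtype

lemma sgm_comp {M M' M'' : Type u} [AddCommGroup M] [Module A M] [AddCommGroup M'] [Module A M']
    [AddCommGroup M''] [Module A M''] (f : M →ₗ[A] M') (g : M' →ₗ[A] M'') :
    sgm f ≫ sgm g = sgm (g.comp f) :=
  ((HomologicalComplex.single (ModuleCat.{u} A) (ComplexShape.up ℤ) 0).map_comp _ _).symm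

lemma sgm_zero (M M' : Type u) [AddCommGroup M] [Module A M] [AddCommGroup M'] [Module A M'] :
    sgm (0 : M →ₗ[A] M') = 0 :=
  (HomologicalComplex.single (ModuleCat.{u} A) (ComplexShape.up ℤ) 0).map_zero _ _

lemma qJ_bmap {J J' : Ideal A} (h : J ≤ J') : qJ J ≫ bmap h = qJ J' :=
  sgm_comp _ _

/-- `0 ⟶ I ⟶ A ⟶ A/I ⟶ 0` as modules. -/
noncomputable def SM (I J : Ideal A) (h : I = J) : ShortComplex (ModuleCat.{u} A) :=
  ShortComplex.mk (ModuleCat.ofHom I.subtype)
    (ModuleCat.ofHom (Submodule.mkQ (J • (⊤ : Submodule A A)))) (by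
    ext x
    refine (Submodule.Quotient.mk_eq_zero _).2 ?_
    subst h
    have h3 : (x : A) ∈ I • (⊤ : Submodule A A) := by
      have := x.2
      simpa only [smul_eq_mul, Ideal.mul_top] using this
    exact h3)

lemma shortExact_SM (I J : Ideal A) (h : I = J) : (SM I J h).ShortExact := by
  have h1 : Mono (SM I J h).f := (ModuleCat.mono_iff_injective _).2 Subtype.val_injective
  have h2 : Epi (SM I J h).g := (ModuleCat.epi_iff_surjective _).2 (Submodule.mkQ_surjective _)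
  refine { exact := (ShortComplex.moduleCat_exact_iff _).2 fun x hx => ?_ }
  have h3 : ∀ y : A, y ∈ (J • (⊤ : Submodule A A)) → y ∈ I := fun y hy => by
    subst h
    simpa only [smul_eq_mul, Ideal.mul_top] using hy
  exact ⟨⟨x, h3 x ((Submodule.Quotient.mk_eq_zero _).1 hx)⟩, rfl⟩

/-- `0 ⟶ I ⟶ A ⟶ A/I ⟶ 0` as complexes. -/
noncomputable def SI (I J : Ideal A) (h : I = J) : ShortComplex (DRing.Cx A) :=
  (SM I J h).map (HomologicalComplex.single (ModuleCat.{u} A) (ComplexShape.up ℤ) 0)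

lemma shortExact_SI (I J : Ideal A) (h : I = J) : (SI I J h).ShortExact :=
  (shortExact_SM I J h).map_of_exact _

lemma zero_whiskerRight {K K' : DRing.Cx A} (P : DRing.Cx A) : (0 : K ⟶ K') ▷ P = 0 := by
  refine Groth.Agent.LoccohB.TenCx.cx_hom_ext fun p q n h x y => ?_
  rw [Groth.Agent.LoccohB.TenCx.whiskerRight_tmk]
  change Groth.Agent.LoccohB.TenCx.tmk K' P p q n h 0 y = 0
  rw [map_zero, LinearMap.zero_apply]

/-- `S ⊗ P`. -/
noncomputable def ST (S : ShortComplex (DRing.Cx A)) (P : DRing.Cx A) : ShortComplex (DRing.Cx A) :=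
  ShortComplex.mk (S.f ▷ P) (S.g ▷ P) (by rw [← comp_whiskerRight, S.zero, zero_whiskerRight])

/-- Tensoring with a termwise flat complex preserves short exact sequences. -/
theorem shortExact_tensor (P : DRing.Cx A) (hP : ∀ i, Module.Flat A (P.X i))
    (S : ShortComplex (DRing.Cx A)) (hS : S.ShortExact) : (ST S P).ShortExact := by
  refine Groth.Agent.Dcoh.KFlatSES.shortExact_map_flip (curriedTensor (ModuleCat.{u} A)) P S
    (fun p q => ?_)
  have h1 : (S.map (HomologicalComplex.eval (ModuleCat.{u} A) (ComplexShape.up ℤ) p)).ShortExact :=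
    hS.map_of_exact _
  have := hP q
  have : PreservesFiniteColimits (tensorLeft (P.X q)) := inferInstance
  have : PreservesFiniteColimits (tensorRight (P.X q)) :=
    preservesFiniteColimits_of_natIso (BraidedCategory.tensorLeftIsoTensorRight (P.X q))
  exact h1.map_of_exact (tensorRight (P.X q))

/-- The unit element. -/
noncomputable def u1 : (𝟙_ (DRing.Cx A) : DRing.Cx A).X 0 :=
  (HomologicalComplex.singleObjXSelf (ComplexShape.up ℤ) 0 (𝟙_ (ModuleCat.{u} A))).inv.hom (1 : A)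

lemma rightUnitor_inv_apply (P : DRing.Cx A) (n : ℤ) (x : P.X n) :
    ((ρ_ P).inv.f n).hom x = tmk P (𝟙_ (DRing.Cx A)) n 0 n (add_zero n) x u1 :=
  congr(($(HomologicalComplex.rightUnitor'_inv P n)).hom x)

lemma leftUnitor_inv_apply (P : DRing.Cx A) (n : ℤ) (x : P.X n) :
    ((λ_ P).inv.f n).hom x = tmk (𝟙_ (DRing.Cx A)) P 0 n n (zero_add n) u1 x :=
  congr(($(HomologicalComplex.leftUnitor'_inv P n)).hom x)

lemma qJ_u1 (J : Ideal A) : ((qJ J).f 0).hom u1 = one J := by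
  have e : (HomologicalComplex.singleObjXSelf (ComplexShape.up ℤ) 0 (𝟙_ (ModuleCat.{u} A))).inv ≫
      (qJ J).f 0 =
      ModuleCat.ofHom (Submodule.mkQ (J • (⊤ : Submodule A A))) ≫ (bIso J).inv := by
    refine (congrArg (fun z => (HomologicalComplex.singleObjXSelf (ComplexShape.up ℤ) 0
      (𝟙_ (ModuleCat.{u} A))).inv ≫ z)
      (HomologicalComplex.single_map_f_self (ComplexShape.up ℤ) 0 _)).trans ?_
    exact Iso.inv_hom_id_assoc _ _
  exact congr(($e).hom (1 : A))

/-- `P ⟶ P ⊗ A/J`. -/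
noncomputable def rho (P : DRing.Cx A) (J : Ideal A) : P ⟶ (P ⊗ Bq J : DRing.Cx A) :=
  (ρ_ P).inv ≫ P ◁ qJ J

lemma rho_mt (P : DRing.Cx A) (J : Ideal A) (n : ℤ) (x : P.X n) :
    ((rho P J).f n).hom x = mt P J n x := by
  change ((P ◁ qJ J).f n).hom (((ρ_ P).inv.f n).hom x) = _
  rw [rightUnitor_inv_apply, whiskerLeft_tmk, qJ_u1]
  rfl

lemma rho_nat {P K : DRing.Cx A} (p : P ⟶ K) (J : Ideal A) :
    p ≫ rho K J = rho P J ≫ p ▷ Bq J := by
  rw [rho, rho, Category.assoc, whisker_exchange, rightUnitor_inv_naturality_assoc]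

lemma rho_bmap (P : DRing.Cx A) {J J' : Ideal A} (h : J ≤ J') :
    rho P J ≫ P ◁ bmap h = rho P J' := by
  rw [rho, rho, Category.assoc, ← whiskerLeft_comp, qJ_bmap]

lemma rho_braid (P : DRing.Cx A) (J : Ideal A) :
    (λ_ P).inv ≫ qJ J ▷ P ≫ (DTen.braidCx (Bq J) P).hom = rho P J := by
  refine HomologicalComplex.hom_ext _ _ fun n => ModuleCat.hom_ext (LinearMap.ext fun x => ?_)
  refine Eq.trans ?_ (rho_mt P J n x).symm
  change ((DTen.braidCx (Bq J) P).hom.f n).hom (((qJ J ▷ P).f n).hom (((λ_ P).inv.f n).hom x)) = _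
  rw [leftUnitor_inv_apply, whiskerRight_tmk, qJ_u1, Assoc.braid_tmk, zero_mul, Int.negOnePow_zero,
    one_smul]
  rfl

/-- `I^(n+1) M ⟶ M ⟶ M ⊗ A/I^(n+1)` is zero. -/
lemma sub_rho {M : Type u} [AddCommGroup M] [Module A M] (J : Ideal A) :
    sgm (J • (⊤ : Submodule A M)).subtype ≫ rho (sg A M) J = 0 := by
  refine HomologicalComplex.hom_ext _ _ fun n => ModuleCat.hom_ext (LinearMap.ext fun x => ?_)
  refine (rho_mt (sg A M) J n (((sgm (J • (⊤ : Submodule A M)).subtype).f n).hom x)).trans ?_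
  change mt _ _ _ _ = 0
  rw [mt_eq_zero]
  by_cases hn : n = 0
  · subst hn
    have e : (sgm (J • (⊤ : Submodule A M)).subtype).f 0 =
      (HomologicalComplex.singleObjXSelf (ComplexShape.up ℤ) 0 _).hom ≫
        ModuleCat.ofHom (J • (⊤ : Submodule A M)).subtype ≫
        (HomologicalComplex.singleObjXSelf (ComplexShape.up ℤ) 0 (ModuleCat.of A M)).inv :=
      HomologicalComplex.single_map_f_self (ComplexShape.up ℤ) 0 _
    rw [e]
    set y := (HomologicalComplex.singleObjXSelf (ComplexShape.up ℤ) 0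
      (ModuleCat.of A ↥(J • (⊤ : Submodule A M)))).hom.hom x
    have h1 : (HomologicalComplex.singleObjXSelf (ComplexShape.up ℤ) 0 (ModuleCat.of A M)).inv.hom
        (y : M) ∈ (J • (⊤ : Submodule A M)).map
          (HomologicalComplex.singleObjXSelf (ComplexShape.up ℤ) 0 (ModuleCat.of A M)).inv.hom :=
      Submodule.mem_map_of_mem y.2
    rw [Submodule.map_smul''] at h1
    exact Submodule.smul_mono le_rfl le_top h1
  · have : IsZero ((sg A M).X n) := HomologicalComplex.isZero_single_obj_X _ _ _ _ hn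
    have := ModuleCat.subsingleton_of_isZero this
    rw [Subsingleton.elim (((sgm (J • (⊤ : Submodule A M)).subtype).f n).hom x) 0]
    exact Submodule.zero_mem _

lemma finite_sg (M : Type u) [AddCommGroup M] [Module A M] [Module.Finite A M] (i : ℤ) :
    Module.Finite A ((sg A M).X i) := by
  by_cases hi : i = 0
  · subst hi
    exact Module.Finite.equiv
      (HomologicalComplex.singleObjXSelf (ComplexShape.up ℤ) 0 (ModuleCat.of A M)).symm.toLinearEquiv
  · have : IsZero ((sg A M).X i) := HomologicalComplex.isZero_single_obj_X _ _ _ _ hi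
    have := ModuleCat.subsingleton_of_isZero this
    infer_instance

theorem main [IsNoetherianRing A] [DTen.HasLTen A] (I : Ideal A) (M : Type u) [AddCommGroup M]
    [Module A M] [Module.Finite A M] :
    ∃ (n : ℕ) (_ : 0 < n)
      (g : Q.obj (sg A ↥(I ^ n • (⊤ : Submodule A M))) ⟶
        (DTen.LTen₂ A).obj (Q.obj (sg A I), Q.obj (sg A M))),
      g ≫ (DTen.LTen₂ A).map (Prod.mkHom (Q.map (iJ I)) (𝟙 _)) ≫
          (DTen.unitL A).app (Q.obj (sg A M)) =
        Q.map (sgm (I ^ n • (⊤ : Submodule A M)).subtype) := by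
  obtain ⟨N, P, S, hP, hQ⟩ := exists_setup (sg A M) 0 0 (fun i hi =>
    HomologicalComplex.isZero_single_obj_X _ _ _ _ (by omega)) (finite_sg M)
  have hPf : ∀ i, Module.Flat A (P.X i) := fun i => by
    have := S.hP i
    infer_instance
  have hI : I = I ^ (0 + 1) := by rw [zero_add, pow_one]
  obtain ⟨m, hle, b, hb⟩ : ∃ (m : ℕ) (hle : I ^ (m + 1) ≤ I ^ (0 + 1))
      (b : Q.obj (sg A M ⊗ Bq (I ^ (m + 1)) : DRing.Cx A) ⟶ Q.obj (P ⊗ Bq (I ^ (0 + 1)))),
      Q.map (S.p ▷ Bq (I ^ (m + 1))) ≫ b = Q.map (P ◁ bmap hle) := by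
    obtain ⟨m, _, b, hb, _⟩ := isProIso_pTen S I 0
    exact ⟨m, Ideal.pow_le_pow_right (by omega), b,
      hb.trans (congrArg (fun z => Q.map (P ◁ z)) (sys_map I (Nat.zero_le m)))⟩
  refine ⟨m + 1, Nat.succ_pos m, ?_⟩
  set i := sgm (I ^ (m + 1) • (⊤ : Submodule A M)).subtype with hi
  -- the composite to `P ⊗ A/I` is zero
  have h1 : Q.map i ≫ inv (Q.map S.p) ≫ Q.map (rho P (I ^ (0 + 1))) = 0 := by
    have e1 : Q.map (rho P (I ^ (0 + 1))) =
        Q.map S.p ≫ Q.map (rho (sg A M) (I ^ (m + 1))) ≫ b := by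
      rw [← rho_bmap P hle, Functor.map_comp, ← hb, ← Category.assoc, ← Functor.map_comp,
        ← rho_nat, Functor.map_comp, Category.assoc]
    rw [e1, IsIso.inv_hom_id_assoc, ← Category.assoc, ← Functor.map_comp, hi, sub_rho,
      Functor.map_zero, zero_comp]
  obtain ⟨g', hg'⟩ : ∃ g' : Q.obj (sg A ↥(I ^ (m + 1) • (⊤ : Submodule A M))) ⟶
      Q.obj (𝟙_ (DRing.Cx A) ⊗ P), g' = Q.map i ≫ inv (Q.map S.p) ≫ Q.map (λ_ P).inv := ⟨_, rfl⟩
  have h2 : g' ≫ Q.map (qJ (I ^ (0 + 1)) ▷ P) = 0 := by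
    have e2 : g' ≫ Q.map (qJ (I ^ (0 + 1)) ▷ P) ≫ Q.map (DTen.braidCx (Bq _) P).hom = 0 := by
      rw [hg', Category.assoc, Category.assoc, ← Functor.map_comp, ← Functor.map_comp, rho_braid,
        h1]
    rw [← cancel_mono (Q.map (DTen.braidCx (Bq (I ^ (0 + 1))) P).hom), Category.assoc, e2,
      zero_comp]
  obtain ⟨h, hh⟩ : ∃ h : Q.obj (sg A ↥(I ^ (m + 1) • (⊤ : Submodule A M))) ⟶
      Q.obj (sg A I ⊗ P), g' = h ≫ Q.map (iJ I ▷ P) :=
    Triangle.coyoneda_exact₂ _ (triangleOfSES_distinguished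
      (shortExact_tensor P hPf (SI I (I ^ (0 + 1)) hI) (shortExact_SI _ _ _))) g' h2
  have hε : IsIso ((ε A).app (sg A I, P)) := Basic.isIso_ε_right _ _
  refine ⟨h ≫ inv ((ε A).app (sg A I, P)) ≫
    (LTen₂ A).map (Prod.mkHom (𝟙 (Q.obj (sg A I))) (Q.map S.p)), ?_⟩
  have e3 : (LTen₂ A).map (Prod.mkHom (𝟙 (Q.obj (sg A I))) (Q.map S.p)) ≫
      (LTen₂ A).map (Prod.mkHom (Q.map (iJ I)) (𝟙 _)) =
      (LTen₂ A).map (Prod.mkHom (Q.map (iJ I)) (𝟙 _)) ≫
        (LTen₂ A).map (Prod.mkHom (𝟙 (DTen.unit A)) (Q.map S.p)) := by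
    rw [← Functor.map_comp, ← Functor.map_comp]
    congr 1
  have e4 : (LTen₂ A).map (Prod.mkHom (𝟙 (DTen.unit A)) (Q.map S.p)) ≫
      (DTen.unitL A).app (Q.obj (sg A M)) = (DTen.unitL A).app (Q.obj P) ≫ Q.map S.p :=
    (DTen.unitL A).naturality (Q.map S.p)
  have e5 : (LTen₂ A).map (Prod.mkHom (Q.map (iJ I)) (𝟙 _)) ≫ (ε A).app (𝟙_ (DRing.Cx A), P) =
      (ε A).app (sg A I, P) ≫ Q.map (iJ I ▷ P) := Basic.ε_nat_left (iJ I) P
  rw [Category.assoc, Category.assoc, reassoc_of% e3, e4, DTen.unitL_app, Category.assoc,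
    reassoc_of% e5, IsIso.inv_hom_id_assoc, ← reassoc_of% hh, hg', Category.assoc, Category.assoc,
    ← Functor.map_comp_assoc, Iso.inv_hom_id, CategoryTheory.Functor.map_id, Category.id_comp,
    IsIso.inv_hom_id, Category.comp_id]

end K785.PowFac
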