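import Groth.Agent.DTen.K785.ProMain
import Groth.Prelude.Def_DTen

/-!
# `K ⊗ᴸ A/I^n ⟶ K ⊗ A/I^n` is a pro-isomorphism
-/

set_option autoImplicit false
universe u

open CategoryTheory CategoryTheory.Limits MonoidalCategory Opposite

attribute [local instance] HasDerivedCategory.standard

namespace K785.ProFinal

open ProMain DTen DerivedCategory

variable {A : Type u} [CommRing A]

theorem isProIso [IsNoetherianRing A] [DTen.HasLTen A] (I : Ideal A) (K : DRing.Cx A) (a b : ℤ)
    (hK : DRing.VanishesOutside K a b) (hKf : ∀ i : ℤ, Module.Finite A (K.X i)) :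
    DerCA.IsProIso (Functor.whiskerLeft (Sys I) (DTen.εLeft A K)) := by
  obtain ⟨N, P, S, hP, hQ⟩ := exists_setup K a b hK hKf
  let e : Sys I ⋙ Q ⋙ (LTen A).obj (Q.obj P) ⟶ Sys I ⋙ Q ⋙ (LTen A).obj (Q.obj K) :=
    Functor.whiskerLeft (Sys I) (Functor.whiskerLeft Q ((LTen A).map (Q.map S.p)))
  let e' : Sys I ⋙ Q ⋙ (LTen A).obj (Q.obj P) ⟶ Sys I ⋙ tensorLeft P ⋙ Q :=
    Functor.whiskerLeft (Sys I) (DTen.εLeft A P)
  have he : IsIso e := inferInstance
  have he' : IsIso e' := by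
    have : ∀ X, IsIso (e'.app X) := fun X => Basic.isIso_ε_left P ((Sys I).obj X)
    exact NatIso.isIso_of_isIso_app e'
  refine ProTri.isProIso_of_comp_eq (e := e) (e' := e') ?_ (isProIso_pTen S I)
  ext X
  exact Basic.ε_nat_left S.p ((Sys I).obj X)

end K785.ProFinal
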