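import Groth.Prelude.Def_DerCA
import Mathlib.CategoryTheory.Triangulated.Pretriangulated

/-!
# Pro-isomorphisms from pro-zero third terms

* `isProIso_of_tri`: a levelwise map `a : X ⟶ Y` of inverse systems in a pretriangulated category,
  the components of which sit in distinguished triangles `Z n ⟶ X n ⟶ Y n ⟶ (Z n)⟦1⟧`, is a
  pro-isomorphism if for all `n` there is an `m ≥ n` such that `Z m ⟶ X m ⟶ X n` and
  `Y m ⟶ Y n ⟶ (Z n)⟦1⟧` vanish.
* `isProIso_comp_left`: precomposition with an isomorphism.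
-/

set_option autoImplicit false
universe v u

open CategoryTheory CategoryTheory.Limits Opposite Pretriangulated

namespace K785.ProTri

section

variable {C : Type u} [Category.{v} C]

lemma isProIso_comp_left {X X' Y : ARSys.PS C} (u : X ⟶ X') [IsIso u] {a : X' ⟶ Y}
    (ha : DerCA.IsProIso a) : DerCA.IsProIso (u ≫ a) := by
  intro n
  obtain ⟨m, h, b, h1, h2⟩ := ha n
  refine ⟨m, h, b ≫ (inv u).app (op n), ?_, ?_⟩
  · rw [NatTrans.comp_app, Category.assoc, reassoc_of% h1, ← Category.assoc,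
      ARSys.tr, ← u.naturality, Category.assoc, ← NatTrans.comp_app, IsIso.hom_inv_id]
    exact Category.comp_id _
  · rw [NatTrans.comp_app, Category.assoc, ← NatTrans.comp_app_assoc, IsIso.inv_hom_id, ← h2]
    exact congrArg (fun z => b ≫ z) (Category.id_comp _)

lemma isProIso_of_comp_eq {X X' X'' Y : ARSys.PS C} {e : X ⟶ X''} {e' : X ⟶ X'} [IsIso e] [IsIso e']
    {a : X'' ⟶ Y} {a' : X' ⟶ Y} (h : e ≫ a = e' ≫ a') (ha : DerCA.IsProIso a') :
    DerCA.IsProIso a := by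
  rw [show a = (inv e ≫ e') ≫ a' by rw [Category.assoc, ← h, IsIso.inv_hom_id_assoc]]
  exact isProIso_comp_left _ ha

end

section

variable {C : Type u} [Category.{v} C] [Preadditive C] [HasZeroObject C] [HasShift C ℤ]
  [∀ n : ℤ, (shiftFunctor C n).Additive] [Pretriangulated C]

theorem isProIso_of_tri {X Y : ARSys.PS C} (a : X ⟶ Y) (Z : ℕ → C)
    (ι : ∀ n, Z n ⟶ X.obj (op n)) (δ : ∀ n, Y.obj (op n) ⟶ (Z n)⟦(1 : ℤ)⟧)
    (hT : ∀ n, Triangle.mk (ι n) (a.app (op n)) (δ n) ∈ distTriang C)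
    (h0 : ∀ n, ∃ (m : ℕ) (h : n ≤ m), ι m ≫ ARSys.tr X h = 0 ∧ ARSys.tr Y h ≫ δ n = 0) :
    DerCA.IsProIso a := by
  intro n
  obtain ⟨m, h, h1, -⟩ := h0 n
  obtain ⟨k, h', -, h4⟩ := h0 m
  obtain ⟨b, hb⟩ : ∃ b : Y.obj (op k) ⟶ X.obj (op m), ARSys.tr Y h' = b ≫ a.app (op m) :=
    Triangle.coyoneda_exact₃ _ (hT m) (ARSys.tr Y h') h4
  have hnat : ∀ {i j : ℕ} (hij : i ≤ j), a.app (op j) ≫ ARSys.tr Y hij =
    ARSys.tr X hij ≫ a.app (op i) := fun hij => (a.naturality _).symm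
  have htr : ∀ (X : ARSys.PS C), ARSys.tr X h' ≫ ARSys.tr X h = ARSys.tr X (h.trans h') := by
    intro X
    rw [ARSys.tr, ARSys.tr, ARSys.tr, ← Functor.map_comp]
    rfl
  have hz : (a.app (op k) ≫ b - ARSys.tr X h') ≫ a.app (op m) = 0 := by
    rw [Preadditive.sub_comp, Category.assoc, ← hb, hnat, sub_self]
  obtain ⟨e, he⟩ : ∃ e : X.obj (op k) ⟶ Z m, a.app (op k) ≫ b - ARSys.tr X h' = e ≫ ι m :=
    Triangle.coyoneda_exact₂ _ (hT m) _ hz
  refine ⟨k, h.trans h', b ≫ ARSys.tr X h, ?_, ?_⟩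
  · rw [← Category.assoc, show a.app (op k) ≫ b = ARSys.tr X h' + e ≫ ι m by
      rw [← he]; abel, Preadditive.add_comp, Category.assoc, h1, comp_zero, add_zero, htr]
  · rw [Category.assoc, ← hnat, ← Category.assoc, ← hb, htr]

end

end K785.ProTri
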