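import Mathlib.RingTheory.Noetherian.Basic
import Mathlib.RingTheory.Ideal.Operations
import Mathlib.Algebra.Module.Projective
import Mathlib.Order.ConditionallyCompleteLattice.Finset

/-!
# Uniform bounds for the `f`-power torsion of `M / JM`
-/

set_option autoImplicit false
universe u v

namespace K785.Torsion

variable {A : Type u} [CommRing A] [IsNoetherianRing A]

/-- For a finite module over a Noetherian ring, the `f`-power torsion of `M/JM` is killed by a
fixed power of `f`. -/
lemma bound_finite (f : A) (M : Type v) [AddCommGroup M] [Module A M]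
    [Module.Finite A M] (N : Submodule A M) :
    ∃ c : ℕ, ∀ x : M, (∃ k : ℕ, f ^ k • x ∈ N) → f ^ c • x ∈ N := by
  have : IsNoetherian A M := isNoetherian_of_isNoetherianRing_of_finite A M
  let g : ℕ →o Submodule A M :=
    { toFun k := N.comap (LinearMap.lsmul A M (f ^ k))
      monotone' := by
        intro k l hkl x hx
        obtain ⟨d, rfl⟩ := Nat.exists_eq_add_of_le hkl
        change f ^ k • x ∈ N at hx
        change f ^ (k + d) • x ∈ N
        rw [pow_add, mul_comm, mul_smul]
        exact N.smul_mem _ hx }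
  obtain ⟨c, hc⟩ := monotone_stabilizes_iff_noetherian.2 this g
  refine ⟨c, fun x ⟨k, hk⟩ => ?_⟩
  rcases le_total k c with h | h
  · exact g.monotone h hk
  · have := hc k h
    change x ∈ g c
    rw [this]
    exact hk

omit [IsNoetherianRing A] in
lemma mem_finsupp {S : Type v} (J : Ideal A) (x : S →₀ A) :
    x ∈ (J • ⊤ : Submodule A (S →₀ A)) ↔ ∀ s, x s ∈ J := by
  constructor
  · intro hx s
    refine Submodule.smul_induction_on (p := fun x : S →₀ A => x s ∈ J) hx ?_ ?_
    · intro r hr y _
      exact J.mul_mem_right _ hr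
    · intro y z hy hz
      exact J.add_mem hy hz
  · intro h
    rw [← Finsupp.sum_single x]
    refine Submodule.sum_mem _ fun s _ => ?_
    rw [show Finsupp.single s (x s) = x s • Finsupp.single s (1 : A) by simp]
    exact Submodule.smul_mem_smul (h s) trivial

/-- For projective modules over a Noetherian ring, the bound is uniform. -/
lemma bound_projective (J : Ideal A) (f : A) :
    ∃ c : ℕ, ∀ (P : Type v) [AddCommGroup P] [Module A P] [Module.Projective A P] (x : P),
      (∃ k : ℕ, f ^ k • x ∈ (J • ⊤ : Submodule A P)) → f ^ c • x ∈ (J • ⊤ : Submodule A P) := by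
  obtain ⟨c, hc⟩ := bound_finite f A J
  refine ⟨c, fun P _ _ _ x ⟨k, hk⟩ => ?_⟩
  obtain ⟨s, hs⟩ := Module.projective_def'.1 ‹Module.Projective A P›
  have h1 : f ^ k • s x ∈ (J • ⊤ : Submodule A (P →₀ A)) := by
    rw [← map_smul]
    have : s (f ^ k • x) ∈ (J • ⊤ : Submodule A P).map s := Submodule.mem_map_of_mem hk
    rw [Submodule.map_smul''] at this
    exact Submodule.smul_mono le_rfl le_top this
  have h2 : f ^ c • s x ∈ (J • ⊤ : Submodule A (P →₀ A)) := by
    rw [mem_finsupp] at h1 ⊢
    intro t
    exact hc _ ⟨k, h1 t⟩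
  have h3 : Finsupp.linearCombination A id (f ^ c • s x) ∈ (J • ⊤ : Submodule A P) := by
    have : Finsupp.linearCombination A id (f ^ c • s x) ∈
      (J • ⊤ : Submodule A (P →₀ A)).map (Finsupp.linearCombination A (id : P → P)) :=
      Submodule.mem_map_of_mem h2
    rw [Submodule.map_smul''] at this
    exact Submodule.smul_mono le_rfl le_top this
  rw [map_smul] at h3
  have h4 : Finsupp.linearCombination A id (s x) = x := congr($hs x)
  rwa [h4] at h3

/-- The bound for finitely many finite modules. -/
lemma bound_family {ι : Type*} (s : Finset ι) (M : ι → Type v) [∀ i, AddCommGroup (M i)]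
    [∀ i, Module A (M i)] [∀ i, Module.Finite A (M i)] (f : A) (N : ∀ i, Submodule A (M i)) :
    ∃ c : ℕ, ∀ i ∈ s, ∀ x : M i, (∃ k : ℕ, f ^ k • x ∈ N i) → f ^ c • x ∈ N i := by
  choose c hc using fun i => bound_finite f (M i) (N i)
  refine ⟨s.sup c, fun i hi x hx => ?_⟩
  obtain ⟨d, hd⟩ := Nat.exists_eq_add_of_le (Finset.le_sup (f := c) hi)
  rw [hd, pow_add, mul_comm, mul_smul]
  exact (N i).smul_mem _ (hc i x hx)

end K785.Torsion
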