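import Groth.Agent.DTen.K785.QxTen
import Groth.Agent.DTen.K785.Torsion
import Groth.Agent.DTen.K785.ProTri
import Groth.Agent.DTen.K785.Basic
import Groth.Agent.LoccohB.KProj
import Mathlib.RingTheory.Nilpotent.Basic
import Mathlib.RingTheory.Ideal.Maps
import Mathlib.RingTheory.Finiteness.Ideal
import Mathlib.Data.Int.Interval
import Groth.Prelude.Def_ega3

/-!
# The pro-isomorphism `K ⊗ᴸ A/I^n ⟶ K ⊗ A/I^n`
-/

set_option autoImplicit false
universe u

open CategoryTheory CategoryTheory.Limits MonoidalCategory Opposite Pretriangulated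

attribute [local instance] HasDerivedCategory.standard

namespace K785.ProMain

open Qx QxSES QxTen DerivedCategory

variable {A : Type u} [CommRing A]

/-- Pro-zero systems of quotients. -/
def PZ {T : DRing.Cx A} (F : ℕ → Fam T) : Prop := ∀ n, ∃ m, n ≤ m ∧ Z (F m) (F n)

lemma PZ.compare {T : DRing.Cx A} {F F' : ℕ → Fam T} (h : PZ F)
    (hF' : ∀ {n m : ℕ}, n ≤ m → F' m ≤ F' n) (h1 : ∀ n, ∃ m, F' m ≤ F n)
    (h2 : ∀ n, ∃ m, F m ≤ F' n) : PZ F' := by
  intro n
  obtain ⟨m₁, hm₁⟩ := h2 n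
  obtain ⟨m₂, -, hm₂⟩ := h m₁
  obtain ⟨m₃, hm₃⟩ := h1 m₂
  exact ⟨max n m₃, le_max_left _ _,
    ((hm₂.trans_le hm₁).le_trans hm₃).le_trans (hF' (le_max_right _ _))⟩

/-- The map `T ⟶ T/F`. -/
noncomputable def mkHom {T : DRing.Cx A} (F : Fam T) : T ⟶ qx T F where
  f _ := ModuleCat.ofHom (mk F)
  comm' _ _ _ := rfl

lemma isZero_Q_of_bot {T : DRing.Cx A} (hT : IsZero (Q.obj T)) (F : Fam T)
    (hF : ∀ (i : ℤ) (x : T.X i), x ∈ F.N i → x = 0) : IsZero (Q.obj (qx T F)) := by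
  have : ∀ i, IsIso ((mkHom F).f i) := fun j => by
    rw [ConcreteCategory.isIso_iff_bijective]
    refine ⟨(injective_iff_map_eq_zero (mk F (i := j))).2 fun x hx => hF j x ((mk_eq_zero F).1 hx),
      mk_surj F⟩
  have : IsIso (mkHom F) := HomologicalComplex.Hom.isIso_of_components _
  exact hT.of_iso (Q.mapIso (asIso (mkHom F))).symm

/-- The family `N ∩ JP`. -/
def FN {N P : DRing.Cx A} (ι : N ⟶ P) (J : Ideal A) : Fam N where
  N i := (J • (⊤ : Submodule A (P.X i))).comap (ι.f i).hom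
  hd i j x hx := by
    change (ι.f j).hom ((N.d i j).hom x) ∈ (J • (⊤ : Submodule A (P.X j)))
    have e : (ι.f j).hom ((N.d i j).hom x) = (P.d i j).hom ((ι.f i).hom x) :=
      congr($(ι.comm i j).hom x).symm
    rw [e]
    have h1 : (P.d i j).hom ((ι.f i).hom x) ∈
      (J • (⊤ : Submodule A (P.X i))).map (P.d i j).hom := Submodule.mem_map_of_mem hx
    rw [Submodule.map_smul''] at h1
    exact Submodule.smul_mono le_rfl le_top h1

lemma mem_FN {N P : DRing.Cx A} {ι : N ⟶ P} {J : Ideal A} {i : ℤ} {x : N.X i} :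
    x ∈ (FN ι J).N i ↔ (ι.f i).hom x ∈ (J • (⊤ : Submodule A (P.X i))) := Iff.rfl

lemma FN_mono {N P : DRing.Cx A} (ι : N ⟶ P) {J J' : Ideal A} (h : J ≤ J') : FN ι J ≤ FN ι J' :=
  fun _ _ hx => Submodule.smul_mono_left h hx

/-- The running hypotheses: `0 ⟶ N ⟶ P ⟶ K ⟶ 0` exact with `N` acyclic, `P` termwise projective
and `K` a bounded complex of finite modules. -/
structure Setup (N P K : DRing.Cx A) where
  ι : N ⟶ P
  p : P ⟶ K
  hι : ∀ (i : ℤ) (x : N.X i), (ι.f i).hom x = 0 → x = 0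
  hex : ∀ (i : ℤ) (x : P.X i), (p.f i).hom x = 0 → ∃ y, (ι.f i).hom y = x
  hpι : ∀ (i : ℤ) (y : N.X i), (p.f i).hom ((ι.f i).hom y) = 0
  hp : ∀ (i : ℤ), Function.Surjective (p.f i).hom
  hN : IsZero (Q.obj N)
  hP : ∀ i, Module.Projective A (P.X i)
  hK : ∃ a b : ℤ, DRing.VanishesOutside K a b
  hKf : ∀ i : ℤ, Module.Finite A (K.X i)

variable {N P K : DRing.Cx A} (S : Setup N P K)

include S in
lemma pz_bot : PZ (fun _ => FN S.ι ⊥) := by
  intro n
  refine ⟨n, le_rfl, FN_mono _ le_rfl, ?_⟩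
  refine (isZero_Q_of_bot S.hN (FN S.ι ⊥) fun i x hx => S.hι i x ?_).eq_of_src _ _
  rw [mem_FN, Submodule.bot_smul] at hx
  exact hx

variable [IsNoetherianRing A]

include S in
lemma bound_K (J : Ideal A) (f : A) : ∃ c : ℕ, ∀ (i : ℤ) (x : K.X i),
    (∃ k : ℕ, f ^ k • x ∈ (J • (⊤ : Submodule A (K.X i)))) →
      f ^ c • x ∈ (J • (⊤ : Submodule A (K.X i))) := by
  obtain ⟨a, b, h⟩ := S.hK
  have := S.hKf
  obtain ⟨c, hc⟩ := Torsion.bound_family (Finset.Icc a b) (fun i => K.X i) f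
    (fun i => (J • (⊤ : Submodule A (K.X i))))
  refine ⟨c, fun i x hx => ?_⟩
  by_cases hi : i ∈ Finset.Icc a b
  · exact hc i hi x hx
  · have : IsZero (K.X i) := h i (by rw [Finset.mem_Icc] at hi; omega)
    have := ModuleCat.subsingleton_of_isZero this
    rw [Subsingleton.elim (f ^ c • x) 0]
    exact Submodule.zero_mem _

/-- The induction step: adding `f`. -/
theorem pz_step {J : ℕ → Ideal A} (hJ : ∀ {n m : ℕ}, n ≤ m → J m ≤ J n) (f : A)
    (h : PZ fun n => FN S.ι (J n)) : PZ fun n => FN S.ι (J n ⊔ Ideal.span {f ^ n}) := by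
  have h1 : PZ fun n => sup (FN S.ι (J n)) (f ^ n) := by
    refine QxSES.step (F := fun n => FN S.ι (J n)) (fun h => FN_mono _ (hJ h)) h fun n => ?_
    obtain ⟨c, hc⟩ := Torsion.bound_projective.{u, u} (J n) f
    refine ⟨c, fun i x ⟨k, hk⟩ => ?_⟩
    have := S.hP i
    rw [mem_FN, map_smul] at hk ⊢
    exact hc (P.X i) _ ⟨k, hk⟩
  refine h1.compare (fun {n m} hnm => FN_mono _ (sup_le_sup (hJ hnm) ?_)) (fun n => ?_) (fun n => ?_)
  · rw [Ideal.span_singleton_le_span_singleton]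
    exact pow_dvd_pow f hnm
  · obtain ⟨c, hc⟩ := bound_K S (J n) f
    refine ⟨n + c, fun i x hx => ?_⟩
    rw [mem_FN, Submodule.sup_smul] at hx
    obtain ⟨j, hj, z, hz, hjz⟩ := Submodule.mem_sup.1 hx
    rw [Submodule.ideal_span_singleton_smul] at hz
    obtain ⟨y, -, hy⟩ := hz
    change f ^ (n + c) • y = z at hy
    subst hy
    have hj' : j ∈ (J n • (⊤ : Submodule A (P.X i))) :=
      Submodule.smul_mono_left (hJ (Nat.le_add_right _ _)) hj
    -- the image of `y` in `K` is `f`-power torsion modulo `J n`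
    have h2 : f ^ (n + c) • (S.p.f i).hom y ∈ (J n • (⊤ : Submodule A (K.X i))) := by
      have e : (S.p.f i).hom (j + f ^ (n + c) • y) = 0 := by rw [hjz]; exact S.hpι i x
      rw [map_add, map_smul] at e
      rw [eq_neg_of_add_eq_zero_right e]
      refine Submodule.neg_mem _ ?_
      have : (S.p.f i).hom j ∈ (J n • (⊤ : Submodule A (P.X i))).map (S.p.f i).hom :=
        Submodule.mem_map_of_mem hj'
      rw [Submodule.map_smul''] at this
      exact Submodule.smul_mono le_rfl le_top this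
    have h3 := hc i _ ⟨_, h2⟩
    have h4 : (J n • (⊤ : Submodule A (K.X i))) =
        (J n • (⊤ : Submodule A (P.X i))).map (S.p.f i).hom := by
      rw [Submodule.map_smul'', Submodule.map_top, LinearMap.range_eq_top.2 (S.hp i)]
    rw [h4] at h3
    obtain ⟨j', hj1, hj2⟩ := h3
    have h5 : (S.p.f i).hom (f ^ c • y - j') = 0 := by
      rw [map_sub, map_smul, hj2, sub_self]
    obtain ⟨ν, hν⟩ := S.hex i _ h5
    rw [mem_sup]
    refine ⟨x - f ^ n • ν, ?_, ν, by abel⟩
    rw [mem_FN, map_sub, map_smul, hν, ← hjz, smul_sub, pow_add, mul_smul]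
    rw [show j + f ^ n • f ^ c • y - (f ^ n • f ^ c • y - f ^ n • j') = j + f ^ n • j' by abel]
    exact Submodule.add_mem _ hj' (Submodule.smul_mem _ _ hj1)
  · refine ⟨n, fun i x hx => ?_⟩
    obtain ⟨y, hy, z, rfl⟩ := mem_sup.1 hx
    rw [mem_FN, map_add, map_smul]
    refine Submodule.add_mem _ (Submodule.smul_mono_left _root_.le_sup_left hy) ?_
    refine Submodule.smul_mono_left _root_.le_sup_right ?_
    exact Submodule.smul_mem_smul (Ideal.mem_span_singleton_self _) trivial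

theorem pz_finset (s : Finset A) : PZ fun n => FN S.ι (s.sup fun f => Ideal.span {f ^ n}) := by
  classical
  induction s using Finset.induction_on with
  | empty => exact pz_bot S
  | insert f s hf ih =>
    have h1 := pz_step S (J := fun n => s.sup fun f => Ideal.span {f ^ n}) (fun {n m} hnm =>
      Finset.sup_mono_fun fun f _ => by
        rw [Ideal.span_singleton_le_span_singleton]
        exact pow_dvd_pow f hnm) f ih
    simpa only [Finset.sup_insert, sup_comm] using h1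

theorem pz_pow (I : Ideal A) : PZ fun n => FN S.ι (I ^ (n + 1)) := by
  obtain ⟨s, hs⟩ := (isNoetherianRing_iff_ideal_fg A).1 ‹_› I
  have hmem : ∀ f ∈ s, f ∈ I := fun f hf => hs ▸ Ideal.subset_span hf
  refine (pz_finset S s).compare (fun h => FN_mono _ (Ideal.pow_le_pow_right (by omega)))
    (fun n => ?_) (fun n => ?_)
  · obtain ⟨k, hk⟩ := Ideal.exists_pow_le_of_le_radical_of_fg
      (I := I) (J := s.sup fun f => Ideal.span {f ^ n}) (by
        rw [← hs, Ideal.span_le]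
        intro f hf
        exact ⟨n, (Finset.le_sup (f := fun f => Ideal.span {f ^ n}) hf)
          (Ideal.mem_span_singleton_self _)⟩) ⟨s, hs⟩
    exact ⟨k, FN_mono _ ((Ideal.pow_le_pow_right (by omega)).trans hk)⟩
  · refine ⟨n + 1, FN_mono _ (Finset.sup_le fun f hf => ?_)⟩
    rw [Ideal.span_singleton_le_iff_mem]
    exact Ideal.pow_mem_pow (hmem f hf) _

omit [IsNoetherianRing A]

/-- `0 ⟶ N/(N ∩ JP) ⟶ P ⊗ A/J ⟶ K ⊗ A/J ⟶ 0`. -/
noncomputable def θ (J : Ideal A) : qx N (FN S.ι J) ⟶ (P ⊗ Bq J : DRing.Cx A) where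
  f i := ModuleCat.ofHom (Submodule.liftQ _ ((mt P J i).comp (S.ι.f i).hom)
    (fun x hx => (mt_eq_zero P J i ((S.ι.f i).hom x)).2 hx))
  comm' := by
    rintro i _ rfl
    refine ModuleCat.hom_ext (LinearMap.ext fun x => ?_)
    obtain ⟨x, rfl⟩ := mk_surj _ x
    change ((P ⊗ Bq J : DRing.Cx A).d i (i + 1)).hom (mt P J i ((S.ι.f i).hom x)) =
      mt P J (i + 1) ((S.ι.f (i + 1)).hom ((N.d i (i + 1)).hom x))
    rw [d_mt]
    exact congrArg _ (congr($(S.ι.comm i (i + 1)).hom x))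

lemma θ_mk (J : Ideal A) (i : ℤ) (x : N.X i) :
    ((θ S J).f i).hom (mk _ x) = mt P J i ((S.ι.f i).hom x) := rfl

/-- The short complex. -/
noncomputable def SC (J : Ideal A) : ShortComplex (DRing.Cx A) :=
  ShortComplex.mk (θ S J) (S.p ▷ Bq J) (hom_ext fun i x => by
    change ((S.p ▷ Bq J).f i).hom (mt P J i ((S.ι.f i).hom x)) = 0
    rw [whisker_mt, S.hpι, map_zero])

lemma shortExact_SC (J : Ideal A) : (SC S J).ShortExact := by
  refine shortExact_of ?_ ?_ ?_
  · intro i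
    refine (injective_iff_map_eq_zero _).2 fun x hx => ?_
    obtain ⟨x, rfl⟩ := mk_surj _ x
    exact (mk_eq_zero (FN S.ι J)).2 ((mt_eq_zero P J i _).1 hx)
  · intro i z hz
    obtain ⟨x, rfl⟩ := mt_surj P J i z
    change ((S.p ▷ Bq J).f i).hom (mt P J i x) = 0 at hz
    rw [whisker_mt, mt_eq_zero] at hz
    have h4 : (J • (⊤ : Submodule A (K.X i))) =
        (J • (⊤ : Submodule A (P.X i))).map (S.p.f i).hom := by
      rw [Submodule.map_smul'', Submodule.map_top, LinearMap.range_eq_top.2 (S.hp i)]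
    rw [h4] at hz
    obtain ⟨x', h1, h2⟩ := hz
    obtain ⟨y, hy⟩ := S.hex i (x - x') (by rw [map_sub, h2, sub_self])
    refine ⟨mk _ y, ?_⟩
    change mt P J i ((S.ι.f i).hom y) = mt P J i x
    rw [hy, map_sub, (mt_eq_zero P J i x').2 h1, sub_zero]
  · intro i z
    obtain ⟨y, rfl⟩ := mt_surj K J i z
    obtain ⟨x, rfl⟩ := S.hp i y
    exact ⟨mt P J i x, whisker_mt _ _ _ _⟩

/-- Functoriality of `SC`. -/
noncomputable def mapSC {J J' : Ideal A} (h : J ≤ J') : SC S J ⟶ SC S J' where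
  τ₁ := ql (FN_mono S.ι h)
  τ₂ := P ◁ bmap h
  τ₃ := K ◁ bmap h
  comm₁₂ := hom_ext fun i x => by
    change mt P J' i ((S.ι.f i).hom x) = ((P ◁ bmap h).f i).hom (mt P J i ((S.ι.f i).hom x))
    rw [bmap_mt]
  comm₂₃ := whisker_exchange _ _

/-- The inverse system `A/I^(n+1)` of complexes. -/
noncomputable abbrev Sys (I : Ideal A) : ℕᵒᵖ ⥤ DRing.Cx A :=
  CohIII.adicSystem I (ModuleCat.of A A) ⋙
    HomologicalComplex.single (ModuleCat.{u} A) (ComplexShape.up ℤ) 0

/-- The projections `A ⟶ A/I^(n+1)` are compatible with the transition maps. -/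
noncomputable def proj (I : Ideal A) :
    (Functor.const ℕᵒᵖ).obj (ModuleCat.of A A) ⟶ CohIII.adicSystem I (ModuleCat.of A A) :=
  NatTrans.ofOpSequence
    (fun n => ModuleCat.ofHom (Submodule.mkQ (I ^ (n + 1) • ⊤ : Submodule A A)))
    (fun n => by
      have : (CohIII.adicSystem I (ModuleCat.of A A)).map (homOfLE (n.le_add_right 1)).op =
        ModuleCat.ofHom (Submodule.factor
          (Submodule.smul_mono_left (Ideal.pow_le_pow_right (Nat.le_succ (n + 1))))) :=
        Functor.ofOpSequence_map_homOfLE_succ _ n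
      rw [this]
      rfl)

lemma adicSystem_map (I : Ideal A) {n m : ℕ} (h : n ≤ m) :
    (CohIII.adicSystem I (ModuleCat.of A A)).map (homOfLE h).op =
      ModuleCat.ofHom (Submodule.factor
        (Submodule.smul_mono_left (Ideal.pow_le_pow_right (Nat.add_le_add_right h 1)))) := by
  have e := (proj I).naturality (homOfLE h).op
  refine ModuleCat.hom_ext (LinearMap.ext fun x => ?_)
  obtain ⟨x, rfl⟩ := Submodule.Quotient.mk_surjective _ x
  exact (congr(($e).hom x)).symm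

lemma sys_map (I : Ideal A) {n m : ℕ} (h : n ≤ m) :
    (Sys I).map (homOfLE h).op =
      bmap (J := I ^ (m + 1)) (J' := I ^ (n + 1)) (Ideal.pow_le_pow_right (by omega)) :=
  congrArg (fun z => (HomologicalComplex.single (ModuleCat.{u} A) (ComplexShape.up ℤ) 0).map z)
    (adicSystem_map I h)

/-- The natural transformation `P ⊗ A/I^(n+1) ⟶ K ⊗ A/I^(n+1)`. -/
noncomputable def pTen (I : Ideal A) {P K : DRing.Cx A} (p : P ⟶ K) :
    Sys I ⋙ (tensorLeft P ⋙ Q) ⟶ Sys I ⋙ (tensorLeft K ⋙ Q) :=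
  Functor.whiskerLeft (Sys I) (Functor.whiskerRight ((curriedTensor (DRing.Cx A)).map p) Q)

lemma pTen_app (I : Ideal A) {P K : DRing.Cx A} (p : P ⟶ K) (n : ℕ) :
    (pTen I p).app (op n) = Q.map (p ▷ Bq (I ^ (n + 1))) := rfl

include S in
theorem isProIso_pTen [IsNoetherianRing A] (I : Ideal A) : DerCA.IsProIso (pTen I S.p) := by
  refine ProTri.isProIso_of_tri (pTen I S.p) (fun n => Q.obj (qx N (FN S.ι (I ^ (n + 1)))))
    (fun n => Q.map (θ S (I ^ (n + 1)))) (fun n => triangleOfSESδ (shortExact_SC S (I ^ (n + 1))))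
    (fun n => triangleOfSES_distinguished (shortExact_SC S (I ^ (n + 1)))) fun n => ?_
  obtain ⟨m, hnm, h1, h2⟩ := pz_pow S I n
  have hle : I ^ (m + 1) ≤ I ^ (n + 1) := Ideal.pow_le_pow_right (by omega)
  have e1 : Q.map (mapSC S hle).τ₁ = 0 := h2
  refine ⟨m, hnm, ?_, ?_⟩
  · have e2 : ARSys.tr (Sys I ⋙ (tensorLeft P ⋙ Q)) hnm = Q.map (P ◁ bmap hle) :=
      congrArg (fun z => Q.map (P ◁ z)) (sys_map I hnm)
    rw [e2]
    refine (Q.map_comp _ _).symm.trans ?_
    have e3 : θ S (I ^ (m + 1)) ≫ (P ◁ bmap hle) = (mapSC S hle).τ₁ ≫ (SC S (I ^ (n + 1))).f :=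
      (mapSC S hle).comm₁₂.symm
    have e4 : Q.map ((mapSC S hle).τ₁ ≫ (SC S (I ^ (n + 1))).f) = 0 := by
      rw [Functor.map_comp, e1, zero_comp]
    exact (congrArg (fun z => Q.map z) e3).trans e4
  · have e2 : ARSys.tr (Sys I ⋙ (tensorLeft K ⋙ Q)) hnm = Q.map (K ◁ bmap hle) :=
      congrArg (fun z => Q.map (K ◁ z)) (sys_map I hnm)
    rw [e2]
    have e3 := triangleOfSESδ_naturality (shortExact_SC S (I ^ (m + 1)))
      (shortExact_SC S (I ^ (n + 1))) (mapSC S hle)
    rw [e1, Functor.map_zero, comp_zero] at e3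
    exact e3.symm

/-- A setup exists for every bounded complex of finite modules. -/
theorem exists_setup (K : DRing.Cx A) (a b : ℤ) (hK : DRing.VanishesOutside K a b)
    (hKf : ∀ i : ℤ, Module.Finite A (K.X i)) :
    ∃ (N P : DRing.Cx A) (S : Setup N P K), P.IsKProjective ∧ IsIso (Q.map S.p) := by
  obtain ⟨P, p, h1, h2, h3, h4⟩ := Groth.Agent.LoccohB.KProj.exists_kprojective K
  have : Epi p := epi_of p h4
  have hS := shortExact_kernel p
  have hQ : IsIso (Q.map p) := inferInstance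
  have hinj : ∀ i, Function.Injective ((kernel.ι p).f i).hom := fun i =>
    (ModuleCat.mono_iff_injective _).1 inferInstance
  refine ⟨kernel p, P, ⟨kernel.ι p, p, ?_, ?_, ?_, h4, ?_, ?_, ⟨a, b, hK⟩, hKf⟩, h1, hQ⟩
  · intro i x hx
    exact hinj i (hx.trans (map_zero _).symm)
  · intro i x hx
    have h5 := (HomologicalComplex.shortExact_iff_degreewise_shortExact _).1 hS i
    exact (ShortComplex.moduleCat_exact_iff _).1 h5.exact x hx
  · intro i y
    exact congr(($(kernel.condition p).f i).hom y)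
  · exact (Triangle.isZero₁_iff_isIso₂ _ (triangleOfSES_distinguished hS)).2 hQ
  · intro i
    exact (IsProjective.iff_projective (P.X i)).2 (h3 i)

end K785.ProMain
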