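import Groth.Agent.LoccohB.TenCx
import Groth.Prelude.Def_Wider
import Mathlib.Algebra.Homology.DerivedCategory.ShortExact
import Mathlib.Algebra.Homology.HomologicalComplexAbelian
import Mathlib.Algebra.Category.ModuleCat.Abelian
import Mathlib.RingTheory.Noetherian.Basic

/-!
# Quotients of complexes of modules by families of submodules stable under `d`
-/

set_option autoImplicit false
universe u

open CategoryTheory CategoryTheory.Limits

attribute [local instance] HasDerivedCategory.standard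

namespace K785.Qx

variable {A : Type u} [CommRing A]

/-- A family of submodules of the terms of a complex, stable under the differential. -/
structure Fam (T : DRing.Cx A) where
  N : ∀ i : ℤ, Submodule A (T.X i)
  hd : ∀ i j : ℤ, N i ≤ (N j).comap (T.d i j).hom

instance (T : DRing.Cx A) : LE (Fam T) := ⟨fun F F' => ∀ i, F.N i ≤ F'.N i⟩

lemma Fam.le_def {T : DRing.Cx A} {F F' : Fam T} : F ≤ F' ↔ ∀ i, F.N i ≤ F'.N i := Iff.rfl

lemma fle_trans {T : DRing.Cx A} {F F' F'' : Fam T} (h : F ≤ F') (h' : F' ≤ F'') : F ≤ F'' :=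
  fun i => (h i).trans (h' i)

/-- The quotient complex. -/
noncomputable def qx (T : DRing.Cx A) (F : Fam T) : DRing.Cx A where
  X i := ModuleCat.of A (T.X i ⧸ F.N i)
  d i j := ModuleCat.ofHom (Submodule.mapQ (F.N i) (F.N j) (T.d i j).hom (F.hd i j))
  shape i j h := by
    refine ModuleCat.hom_ext (LinearMap.ext fun x => ?_)
    obtain ⟨x, rfl⟩ := Submodule.Quotient.mk_surjective _ x
    change Submodule.Quotient.mk ((T.d i j).hom x) = 0
    rw [T.shape i j h]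
    rfl
  d_comp_d' i j k _ _ := by
    refine ModuleCat.hom_ext (LinearMap.ext fun x => ?_)
    obtain ⟨x, rfl⟩ := Submodule.Quotient.mk_surjective _ x
    change Submodule.Quotient.mk ((T.d j k).hom ((T.d i j).hom x)) = 0
    rw [show (T.d j k).hom ((T.d i j).hom x) = (T.d i j ≫ T.d j k).hom x from rfl, T.d_comp_d]
    rfl

/-- The class of `x` in the quotient complex. -/
noncomputable def mk {T : DRing.Cx A} (F : Fam T) {i : ℤ} : T.X i →ₗ[A] (qx T F).X i := (F.N i).mkQ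

lemma mk_surj {T : DRing.Cx A} (F : Fam T) {i : ℤ} : Function.Surjective (mk F (i := i)) :=
  Submodule.mkQ_surjective _

lemma mk_eq_zero {T : DRing.Cx A} (F : Fam T) {i : ℤ} {x : T.X i} : mk F x = 0 ↔ x ∈ F.N i :=
  Submodule.Quotient.mk_eq_zero _

lemma mk_eq {T : DRing.Cx A} (F : Fam T) {i : ℤ} {x y : T.X i} : mk F x = mk F y ↔ x - y ∈ F.N i :=
  Submodule.Quotient.eq _

lemma d_mk {T : DRing.Cx A} (F : Fam T) {i j : ℤ} (x : T.X i) :
    ((qx T F).d i j).hom (mk F x) = mk F ((T.d i j).hom x) := rfl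

lemma hom_ext {T : DRing.Cx A} {F : Fam T} {L : DRing.Cx A} {f g : qx T F ⟶ L}
    (h : ∀ i (x : T.X i), (f.f i).hom (mk F x) = (g.f i).hom (mk F x)) : f = g := by
  refine HomologicalComplex.hom_ext _ _ fun i => ModuleCat.hom_ext (LinearMap.ext fun x => ?_)
  obtain ⟨x, rfl⟩ := mk_surj F x
  exact h i x

/-- The map of quotients induced by a map of complexes. -/
noncomputable def qm {T T' : DRing.Cx A} (F : Fam T) (F' : Fam T') (φ : T ⟶ T')
    (h : ∀ i x, x ∈ F.N i → (φ.f i).hom x ∈ F'.N i) : qx T F ⟶ qx T' F' where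
  f i := ModuleCat.ofHom (Submodule.mapQ (F.N i) (F'.N i) (φ.f i).hom (fun x hx => h i x hx))
  comm' i j _ := by
    refine ModuleCat.hom_ext (LinearMap.ext fun x => ?_)
    obtain ⟨x, rfl⟩ := Submodule.Quotient.mk_surjective _ x
    change Submodule.Quotient.mk ((T'.d i j).hom ((φ.f i).hom x)) =
      Submodule.Quotient.mk ((φ.f j).hom ((T.d i j).hom x))
    exact congrArg _ (congr($(φ.comm i j).hom x))

lemma qm_mk {T T' : DRing.Cx A} {F : Fam T} {F' : Fam T'} {φ : T ⟶ T'}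
    (h : ∀ i x, x ∈ F.N i → (φ.f i).hom x ∈ F'.N i) (i : ℤ) (x : T.X i) :
    ((qm F F' φ h).f i).hom (mk F x) = mk F' ((φ.f i).hom x) := rfl

lemma qm_comp {T T' T'' : DRing.Cx A} {F : Fam T} {F' : Fam T'} {F'' : Fam T''} {φ : T ⟶ T'}
    {ψ : T' ⟶ T''} (h : ∀ i x, x ∈ F.N i → (φ.f i).hom x ∈ F'.N i)
    (h' : ∀ i x, x ∈ F'.N i → (ψ.f i).hom x ∈ F''.N i) :
    qm F F' φ h ≫ qm F' F'' ψ h' = qm F F'' (φ ≫ ψ) (fun i x hx => h' i _ (h i x hx)) :=
  hom_ext fun _ _ => rfl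

lemma qm_congr {T T' : DRing.Cx A} {F : Fam T} {F' : Fam T'} {φ ψ : T ⟶ T'} (e : φ = ψ)
    (h : ∀ i x, x ∈ F.N i → (φ.f i).hom x ∈ F'.N i) :
    qm F F' φ h = qm F F' ψ (e ▸ h) := by
  subst e; rfl

/-- multiplication by `a` as a map of quotients. -/
noncomputable def qs {T : DRing.Cx A} (F F' : Fam T) (a : A)
    (h : ∀ i x, x ∈ F.N i → a • x ∈ F'.N i) : qx T F ⟶ qx T F' :=
  qm F F' (a • 𝟙 T) h

lemma qs_mk {T : DRing.Cx A} {F F' : Fam T} {a : A}
    (h : ∀ i x, x ∈ F.N i → a • x ∈ F'.N i) (i : ℤ) (x : T.X i) :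
    ((qs F F' a h).f i).hom (mk F x) = mk F' (a • x) := rfl

lemma qs_comp {T : DRing.Cx A} {F F' F'' : Fam T} {a b : A}
    (h : ∀ i x, x ∈ F.N i → a • x ∈ F'.N i) (h' : ∀ i x, x ∈ F'.N i → b • x ∈ F''.N i) :
    qs F F' a h ≫ qs F' F'' b h' = qs F F'' (b * a) (fun i x hx => by
      rw [mul_smul]; exact h' i _ (h i x hx)) := by
  refine hom_ext fun i x => ?_
  change mk F'' (b • (a • x)) = mk F'' ((b * a) • x)
  rw [mul_smul]

/-- the quotient map for an inclusion. -/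
noncomputable def ql {T : DRing.Cx A} {F F' : Fam T} (h : F ≤ F') : qx T F ⟶ qx T F' :=
  qm F F' (𝟙 T) (fun i _ hx => h i hx)

lemma ql_mk {T : DRing.Cx A} {F F' : Fam T} (h : F ≤ F') (i : ℤ) (x : T.X i) :
    ((ql h).f i).hom (mk F x) = mk F' x := rfl

lemma ql_comp {T : DRing.Cx A} {F F' F'' : Fam T} (h : F ≤ F') (h' : F' ≤ F'') :
    ql h ≫ ql h' = ql (fle_trans h h') := hom_ext fun _ _ => rfl

/-! ### The relation `Z` -/

/-- `F ≤ F'` and the projection `T/F ⟶ T/F'` is zero in `D(A)`. -/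
def Z {T : DRing.Cx A} (F F' : Fam T) : Prop := ∃ h : F ≤ F', DerivedCategory.Q.map (ql h) = 0

lemma Z.trans_le {T : DRing.Cx A} {F F' F'' : Fam T} (h : Z F F') (h' : F' ≤ F'') : Z F F'' := by
  obtain ⟨h1, h2⟩ := h
  exact ⟨fle_trans h1 h', by rw [← ql_comp h1 h', Functor.map_comp, h2, zero_comp]⟩

lemma Z.le_trans {T : DRing.Cx A} {F F' F'' : Fam T} (h : F ≤ F') (h' : Z F' F'') : Z F F'' := by
  obtain ⟨h1, h2⟩ := h'
  exact ⟨fle_trans h h1, by rw [← ql_comp h h1, Functor.map_comp, h2, comp_zero]⟩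

/-! ### The families `(F : a)` and `F + aT` -/

/-- `(F : a)`. -/
def colon {T : DRing.Cx A} (F : Fam T) (a : A) : Fam T where
  N i := (F.N i).comap (LinearMap.lsmul A _ a)
  hd i j x hx := by
    change a • (T.d i j).hom x ∈ F.N j
    rw [← map_smul]
    exact F.hd i j (show a • x ∈ F.N i from hx)

lemma mem_colon {T : DRing.Cx A} {F : Fam T} {a : A} {i : ℤ} {x : T.X i} :
    x ∈ (colon F a).N i ↔ a • x ∈ F.N i := Iff.rfl

/-- `F + aT`. -/
def sup {T : DRing.Cx A} (F : Fam T) (a : A) : Fam T where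
  N i := F.N i ⊔ LinearMap.range (LinearMap.lsmul A (T.X i) a)
  hd i j x hx := by
    obtain ⟨y, hy, _, ⟨z, rfl⟩, rfl⟩ := Submodule.mem_sup.1 hx
    change (T.d i j).hom (y + a • z) ∈ (F.N j ⊔ LinearMap.range (LinearMap.lsmul A (T.X j) a) : Submodule A (T.X j))
    rw [map_add, map_smul]
    exact Submodule.add_mem_sup (F.hd i j hy) ⟨_, rfl⟩

lemma mem_sup {T : DRing.Cx A} {F : Fam T} {a : A} {i : ℤ} {x : T.X i} :
    x ∈ (sup F a).N i ↔ ∃ y ∈ F.N i, ∃ z : T.X i, y + a • z = x := by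
  constructor
  · intro hx
    obtain ⟨y, hy, _, ⟨z, rfl⟩, rfl⟩ := Submodule.mem_sup.1 hx
    exact ⟨y, hy, z, rfl⟩
  · rintro ⟨y, hy, z, rfl⟩
    exact Submodule.add_mem_sup hy ⟨_, rfl⟩

lemma le_colon {T : DRing.Cx A} (F : Fam T) (a : A) : F ≤ colon F a :=
  fun i _ hx => (F.N i).smul_mem a hx

lemma le_sup {T : DRing.Cx A} (F : Fam T) (a : A) : F ≤ sup F a := fun _ => _root_.le_sup_left

end K785.Qx
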