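import Groth.Agent.DTen.K785.Qx
import Mathlib.Algebra.Homology.ShortComplex.ModuleCat

/-!
# The two step lemma and the induction step for pro-zero systems of quotient complexes
-/

set_option autoImplicit false
universe w v u

open CategoryTheory CategoryTheory.Limits Pretriangulated

attribute [local instance] HasDerivedCategory.standard

namespace K785.QxSES

open Qx DerivedCategory

section Abs

variable {C : Type u} [Category.{v} C] [Abelian C] [HasDerivedCategory.{w} C]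

/-- For short exact sequences of complexes `S ⟶ S' ⟶ S''`, if the first map is zero on the left
terms and the second is zero on the middle terms (in the derived category), the composition is zero
on the right terms. -/
theorem two_step {S S' S'' : ShortComplex (CochainComplex C ℤ)} (hS : S.ShortExact)
    (hS' : S'.ShortExact) (φ : S ⟶ S') (ψ : S' ⟶ S'') (h1 : Q.map φ.τ₁ = 0)
    (h2 : Q.map ψ.τ₂ = 0) : Q.map (φ.τ₃ ≫ ψ.τ₃) = 0 := by
  have e1 : Q.map φ.τ₃ ≫ triangleOfSESδ hS' = 0 := by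
    rw [← triangleOfSESδ_naturality hS hS' φ, h1, Functor.map_zero, comp_zero]
  obtain ⟨b, hb⟩ : ∃ b : Q.obj S.X₃ ⟶ Q.obj S'.X₂, Q.map φ.τ₃ = b ≫ Q.map S'.g :=
    Triangle.coyoneda_exact₃ _ (triangleOfSES_distinguished hS') (Q.map φ.τ₃) e1
  rw [Functor.map_comp, hb, Category.assoc, ← Functor.map_comp, ← ψ.comm₂₃, Functor.map_comp, h2,
    zero_comp, comp_zero]

end Abs

variable {A : Type u} [CommRing A]

/-- Degreewise criterion for short exactness. -/
lemma shortExact_of {S : ShortComplex (DRing.Cx A)} (hi : ∀ i, Function.Injective (S.f.f i).hom)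
    (he : ∀ (i : ℤ) (x : S.X₂.X i), (S.g.f i).hom x = 0 → ∃ y, (S.f.f i).hom y = x)
    (hs : ∀ i, Function.Surjective (S.g.f i).hom) : S.ShortExact := by
  refine HomologicalComplex.shortExact_of_degreewise_shortExact _ fun i => ?_
  have h1 : Mono (S.map (HomologicalComplex.eval (ModuleCat.{u} A) (ComplexShape.up ℤ) i)).f :=
    (ModuleCat.mono_iff_injective _).2 (hi i)
  have h2 : Epi (S.map (HomologicalComplex.eval (ModuleCat.{u} A) (ComplexShape.up ℤ) i)).g :=
    (ModuleCat.epi_iff_surjective _).2 (hs i)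
  exact { exact := (ShortComplex.moduleCat_exact_iff _).2 (he i) }

/-- For an epimorphism `g : X ⟶ Y`, the short exact sequence `0 ⟶ ker g ⟶ X ⟶ Y ⟶ 0`. -/
lemma shortExact_kernel {X Y : DRing.Cx A} (g : X ⟶ Y) [Epi g] :
    (ShortComplex.mk (kernel.ι g) g (kernel.condition g)).ShortExact :=
  { exact := ShortComplex.exact_of_f_is_kernel _ (kernelIsKernel g) }

lemma epi_of {X Y : DRing.Cx A} (g : X ⟶ Y) (hg : ∀ i, Function.Surjective (g.f i).hom) : Epi g := by
  have : ∀ i, Epi (g.f i) := fun i => (ModuleCat.epi_iff_surjective _).2 (hg i)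
  exact HomologicalComplex.epi_of_epi_f _ this

section

variable {T : DRing.Cx A}

/-- `0 ⟶ T/(F:a) ⟶ T/F ⟶ T/(F + aT) ⟶ 0`. -/
noncomputable def S₂ (F : Fam T) (a : A) : ShortComplex (DRing.Cx A) :=
  ShortComplex.mk (qs (colon F a) F a (fun _ _ hx => hx)) (ql (le_sup F a)) (by
    refine hom_ext fun i x => ?_
    change mk (sup F a) (a • x) = 0
    rw [mk_eq_zero, mem_sup]
    exact ⟨0, Submodule.zero_mem _, x, by rw [zero_add]⟩)

lemma shortExact_S₂ (F : Fam T) (a : A) : (S₂ F a).ShortExact := by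
  refine shortExact_of ?_ ?_ ?_
  · intro i
    refine (injective_iff_map_eq_zero _).2 fun x hx => ?_
    obtain ⟨x, rfl⟩ := mk_surj _ x
    exact (mk_eq_zero (colon F a)).2 ((mk_eq_zero F (x := a • x)).1 hx)
  · intro i x hx
    obtain ⟨x, rfl⟩ := mk_surj _ x
    change mk (sup F a) x = 0 at hx
    rw [mk_eq_zero, mem_sup] at hx
    obtain ⟨y, hy, z, rfl⟩ := hx
    refine ⟨mk _ z, ?_⟩
    change mk F (a • z) = mk F (y + a • z)
    rw [mk_eq]
    simpa using hy
  · intro i x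
    obtain ⟨x, rfl⟩ := mk_surj _ x
    exact ⟨mk _ x, rfl⟩

/-- `0 ⟶ ker ⟶ T/F ⟶ T/(F:a) ⟶ 0`. -/
noncomputable def S₁ (F : Fam T) (a : A) : ShortComplex (DRing.Cx A) :=
  ShortComplex.mk (kernel.ι (ql (le_colon F a))) (ql (le_colon F a)) (kernel.condition _)

lemma shortExact_S₁ (F : Fam T) (a : A) : (S₁ F a).ShortExact := by
  have : Epi (ql (le_colon F a)) := epi_of _ fun i x => by
    obtain ⟨x, rfl⟩ := mk_surj _ x
    exact ⟨mk _ x, rfl⟩
  exact shortExact_kernel _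

lemma qs_eq {F F' : Fam T} (h : F ≤ F') (a : A) :
    qs F F' a (fun i _ hx => (F'.N i).smul_mem a (h i hx)) = ql h ≫ (a • 𝟙 _) :=
  hom_ext fun i x => by
    change mk F' (a • x) = a • mk F' x
    rw [map_smul]

lemma Q_qs {F F' : Fam T} (h : Z F F') (a : A) (ha : ∀ i x, x ∈ F.N i → a • x ∈ F'.N i) :
    Q.map (qs F F' a ha) = 0 := by
  obtain ⟨h1, h2⟩ := h
  rw [show qs F F' a ha = ql h1 ≫ (a • 𝟙 _) from qs_eq h1 a, Functor.map_comp, h2, zero_comp]

/-- Step 1: the system `T/(F_n : f^n)` with transition maps `f^(m-n)` is pro-zero. -/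
theorem step₁ {F F' F'' : Fam T} (hFF' : F ≤ F') (a b c d : A) (h12 : Z F' F'')
    (hb : ∀ i x, x ∈ (colon F (a * b)).N i → a • x ∈ (colon F' b).N i)
    (hd : ∀ i x, x ∈ (colon F' b).N i → c • x ∈ (colon F'' d).N i)
    (ht : ∀ (i : ℤ) (x : T.X i), (a * b) • x ∈ F.N i → a • x ∈ F'.N i) :
    Q.map (qs (colon F (a * b)) (colon F' b) a hb ≫ qs (colon F' b) (colon F'' d) c hd) = 0 := by
  let φ : S₁ F (a * b) ⟶ S₁ F' b :=
    { τ₁ := kernel.map (ql (le_colon F (a * b))) (ql (le_colon F' b))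
        (qs F F' a (fun i x hx => (F'.N i).smul_mem a (hFF' i hx)))
        (qs (colon F (a * b)) (colon F' b) a hb) (hom_ext fun _ _ => rfl)
      τ₂ := qs F F' a (fun i x hx => (F'.N i).smul_mem a (hFF' i hx))
      τ₃ := qs (colon F (a * b)) (colon F' b) a hb
      comm₁₂ := (kernel.lift_ι _ _ _)
      comm₂₃ := hom_ext fun _ _ => rfl }
  have h12' : F' ≤ F'' := h12.1
  let ψ : S₁ F' b ⟶ S₁ F'' d :=
    { τ₁ := kernel.map (ql (le_colon F' b)) (ql (le_colon F'' d))
        (qs F' F'' c (fun i x hx => (F''.N i).smul_mem c (h12' i hx)))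
        (qs (colon F' b) (colon F'' d) c hd) (hom_ext fun _ _ => rfl)
      τ₂ := qs F' F'' c (fun i x hx => (F''.N i).smul_mem c (h12' i hx))
      τ₃ := qs (colon F' b) (colon F'' d) c hd
      comm₁₂ := (kernel.lift_ι _ _ _)
      comm₂₃ := hom_ext fun _ _ => rfl }
  refine two_step (shortExact_S₁ F (a * b)) (shortExact_S₁ F' b) φ ψ ?_ (Q_qs h12 _ _)
  have : φ.τ₁ = 0 := by
    refine (cancel_mono (kernel.ι (ql (le_colon F' b)))).1 ?_
    refine (kernel.lift_ι _ _ _).trans (Eq.trans ?_ zero_comp.symm)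
    refine HomologicalComplex.hom_ext _ _ fun i => ModuleCat.hom_ext (LinearMap.ext fun x => ?_)
    obtain ⟨y, hy⟩ := mk_surj F (((kernel.ι (ql (le_colon F (a * b)))).f i).hom x)
    have hy2 : mk (colon F (a * b)) y = 0 := by
      have e := congr(($(kernel.condition (ql (le_colon F (a * b)))).f i).hom x)
      change ((ql (le_colon F (a * b))).f i).hom
        (((kernel.ι (ql (le_colon F (a * b)))).f i).hom x) = 0 at e
      rw [← hy] at e
      exact e
    rw [mk_eq_zero, mem_colon] at hy2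
    change ((qs F F' a (fun i x hx => (F'.N i).smul_mem a (hFF' i hx))).f i).hom (((kernel.ι (ql (le_colon F (a * b)))).f i).hom x) = 0
    rw [← hy]
    change mk F' (a • y) = 0
    rw [mk_eq_zero]
    exact ht i y hy2
  rw [this, Functor.map_zero]

lemma sup_mono {F F' : Fam T} (h : F ≤ F') {a b : A} (hab : b ∣ a) : sup F a ≤ sup F' b := by
  obtain ⟨c, rfl⟩ := hab
  intro i x hx
  obtain ⟨y, hy, z, rfl⟩ := mem_sup.1 hx
  exact mem_sup.2 ⟨y, h i hy, c • z, by rw [mul_smul]⟩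

/-- The morphism `S₂ (F, b * c) ⟶ S₂ (F', b)` given by `(c, 1, 1)`. -/
noncomputable def mapS₂ {F F' : Fam T} (h : F ≤ F') {a b c : A} (e : a = b * c) :
    S₂ F a ⟶ S₂ F' b where
  τ₁ := qs (colon F a) (colon F' b) c (fun i x hx => by
    rw [mem_colon, ← mul_smul, ← e]
    exact h i hx)
  τ₂ := ql h
  τ₃ := ql (sup_mono h (Dvd.intro c e.symm))
  comm₁₂ := hom_ext fun i x => by
    change mk F' (b • (c • x)) = mk F' (a • x)
    rw [e, mul_smul]
  comm₂₃ := hom_ext fun _ _ => rfl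

theorem step {F : ℕ → Fam T} {f : A} (hF : ∀ {n m : ℕ}, n ≤ m → F m ≤ F n)
    (hZ : ∀ n, ∃ m, n ≤ m ∧ Z (F m) (F n))
    (ht : ∀ n, ∃ c : ℕ, ∀ (i : ℤ) (x : T.X i), (∃ k : ℕ, f ^ k • x ∈ (F n).N i) →
      f ^ c • x ∈ (F n).N i) (n : ℕ) :
    ∃ m, n ≤ m ∧ Z (sup (F m) (f ^ m)) (sup (F n) (f ^ n)) := by
  have hC : ∀ n, ∃ c : ℕ, ∀ a, a = f ^ n * f ^ c → ∀ ha, Q.map
      (qs (colon (F (n + c)) a) (colon (F n) (f ^ n)) (f ^ c) ha) = 0 := by
    intro n
    obtain ⟨k, hk, h1⟩ := hZ n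
    obtain ⟨l, rfl⟩ := Nat.exists_eq_add_of_le hk
    obtain ⟨c, hc⟩ := ht (n + l)
    refine ⟨l + c, fun a haa ha => ?_⟩
    have e := step₁ (F := F (n + l + c)) (hF (Nat.le_add_right _ _)) (f ^ c) (f ^ (n + l)) (f ^ l)
      (f ^ n) h1 (fun i x hx => by
        rw [mem_colon] at hx ⊢
        rw [mul_comm, mul_smul] at hx
        exact hF (Nat.le_add_right _ _) i hx) (fun i x hx => by
        rw [mem_colon] at hx ⊢
        rw [pow_add, mul_smul] at hx
        exact h1.1 i hx) (fun i x hx => hc i x ⟨c + (n + l), by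
        rw [pow_add]; exact hF (Nat.le_add_right _ _) i hx⟩)
    rw [qs_comp] at e
    have key : ∀ (a b : ℕ) (x y : A) (hab : a = b) (hxy : x = y) (z w : A) (hzw : z = w)
      (h : ∀ i u, u ∈ (colon (F a) x).N i → z • u ∈ (colon (F n) (f ^ n)).N i)
      (h' : ∀ i u, u ∈ (colon (F b) y).N i → w • u ∈ (colon (F n) (f ^ n)).N i),
      Q.map (qs (colon (F a) x) (colon (F n) (f ^ n)) z h) = 0 →
      Q.map (qs (colon (F b) y) (colon (F n) (f ^ n)) w h') = 0 := by
      rintro a _ x _ rfl rfl z _ rfl h h' e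
      exact e
    exact key _ _ _ _ (by omega) (by rw [haa]; ring) _ _ (by ring) _ _ e
  obtain ⟨k, hk, h1, h1'⟩ := hZ n
  obtain ⟨l, rfl⟩ := Nat.exists_eq_add_of_le hk
  obtain ⟨c, hc⟩ := hC (n + l)
  have h2 := two_step (shortExact_S₂ _ _) (shortExact_S₂ _ _)
    (mapS₂ (hF (Nat.le_add_right (n + l) c)) (pow_add f (n + l) c))
    (mapS₂ h1 (pow_add f n l)) (hc _ (pow_add f (n + l) c) _) h1'
  have h3 : sup (F (n + l + c)) (f ^ (n + l + c)) ≤ sup (F n) (f ^ n) :=
    sup_mono (hF (by omega)) (pow_dvd_pow f (by omega))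
  have h4 : (mapS₂ (hF (Nat.le_add_right (n + l) c)) (pow_add f (n + l) c)).τ₃ ≫
    (mapS₂ h1 (pow_add f n l)).τ₃ = ql h3 := hom_ext fun _ _ => rfl
  exact ⟨n + l + c, by omega, h3, by rw [← h4]; exact h2⟩

end

end K785.QxSES
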