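import Groth.Agent.DTen.K785.QxSES

/-!
# `P ⊗ (A/J)[0]` elementwise
-/

set_option autoImplicit false
universe u

open CategoryTheory CategoryTheory.Limits MonoidalCategory

namespace K785.QxTen

open Qx QxSES Groth.Agent.LoccohB Groth.Agent.LoccohB.TenCx

variable {A : Type u} [CommRing A]

/-- `A/J` in degree `0`. -/
noncomputable def Bq (J : Ideal A) : DRing.Cx A :=
  (HomologicalComplex.single (ModuleCat.{u} A) (ComplexShape.up ℤ) 0).obj
    (ModuleCat.of A (A ⧸ (J • (⊤ : Submodule A A))))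

/-- The degree zero term of `Bq J`. -/
noncomputable def bIso (J : Ideal A) :
    (Bq J).X 0 ≅ ModuleCat.of A (A ⧸ (J • (⊤ : Submodule A A))) :=
  HomologicalComplex.singleObjXSelf (ComplexShape.up ℤ) 0 _

/-- The class of one. -/
noncomputable def one (J : Ideal A) : (Bq J).X 0 :=
  (bIso J).inv.hom (Submodule.Quotient.mk 1)

lemma bq_zero (J : Ideal A) {q : ℤ} (hq : q ≠ 0) (y : (Bq J).X q) : y = 0 := by
  have : IsZero ((Bq J).X q) := HomologicalComplex.isZero_single_obj_X _ _ _ _ hq
  have := ModuleCat.subsingleton_of_isZero this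
  exact Subsingleton.elim _ _

lemma exists_smul_one (J : Ideal A) (y : (Bq J).X 0) : ∃ a : A, y = a • one J := by
  obtain ⟨a, ha⟩ := Submodule.Quotient.mk_surjective _ ((bIso J).hom.hom y)
  refine ⟨a, ?_⟩
  have h1 : (bIso J).inv.hom ((bIso J).hom.hom y) = y := congr(($((bIso J).hom_inv_id).hom y))
  rw [← h1, ← ha]
  change _ = a • (bIso J).inv.hom (Submodule.Quotient.mk 1)
  rw [← map_smul]
  exact congrArg (fun t : A => (bIso J).inv.hom (Submodule.Quotient.mk t)) (mul_one a).symm

/-- `x ↦ x ⊗ 1`. -/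
noncomputable def mt (P : DRing.Cx A) (J : Ideal A) (i : ℤ) :
    P.X i →ₗ[A] (P ⊗ Bq J : DRing.Cx A).X i :=
  (tmk P (Bq J) i 0 i (add_zero i)).flip (one J)

lemma mt_apply (P : DRing.Cx A) (J : Ideal A) (i : ℤ) (x : P.X i) :
    mt P J i x = tmk P (Bq J) i 0 i (add_zero i) x (one J) := rfl

lemma bq_d (J : Ideal A) (i j : ℤ) : (Bq J).d i j = 0 := HomologicalComplex.single_obj_d _ _ _ _ _

lemma d_mt (P : DRing.Cx A) (J : Ideal A) (i : ℤ) (x : P.X i) :
    ((P ⊗ Bq J : DRing.Cx A).d i (i + 1)).hom (mt P J i x) =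
      mt P J (i + 1) ((P.d i (i + 1)).hom x) := by
  rw [mt_apply, d_tmk, bq_d]
  have : (tmk P (Bq J) i (0 + 1) (i + 1) (by omega)) x ((0 : (Bq J).X 0 ⟶ (Bq J).X (0 + 1)).hom (one J)) = 0 :=
    map_zero _
  rw [this, smul_zero, add_zero]
  rfl

lemma whisker_mt {P K : DRing.Cx A} (p : P ⟶ K) (J : Ideal A) (i : ℤ) (x : P.X i) :
    ((p ▷ Bq J).f i).hom (mt P J i x) = mt K J i ((p.f i).hom x) := whiskerRight_tmk _ _ _ _ _ _ _ _

lemma mt_surj (P : DRing.Cx A) (J : Ideal A) (i : ℤ) : Function.Surjective (mt P J i) := by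
  rw [← LinearMap.range_eq_top]
  have h : ModuleCat.ofHom (LinearMap.range (mt P J i)).mkQ = 0 := by
    refine hom_ext_tmk (K := P) (E := Bq J) fun p q hpq x y => ?_
    change (LinearMap.range (mt P J i)).mkQ (tmk P (Bq J) p q i hpq x y) = 0
    by_cases hq : q = 0
    · subst hq
      obtain rfl : p = i := by omega
      obtain ⟨a, rfl⟩ := exists_smul_one J y
      rw [Submodule.mkQ_apply, Submodule.Quotient.mk_eq_zero]
      exact ⟨a • x, by rw [mt_apply, map_smul, map_smul, LinearMap.smul_apply]⟩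
    · rw [bq_zero J hq y, map_zero, map_zero]
  have h2 : (LinearMap.range (mt P J i)).mkQ = 0 := congrArg ModuleCat.Hom.hom h
  rw [← Submodule.ker_mkQ (LinearMap.range (mt P J i)), h2, LinearMap.ker_zero]

/-- The bilinear map `A/J × M → M/J`. -/
noncomputable def bl (J : Ideal A) (M : Type u) [AddCommGroup M] [Module A M] :
    (A ⧸ (J • (⊤ : Submodule A A))) →ₗ[A] M →ₗ[A] M ⧸ (J • (⊤ : Submodule A M)) :=
  Submodule.liftQ _ (LinearMap.toSpanSingleton A (M →ₗ[A] M ⧸ (J • (⊤ : Submodule A M)))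
    (Submodule.mkQ _)) (by
    intro a ha
    have ha' : a ∈ J := by simpa using ha
    rw [LinearMap.mem_ker]
    ext x
    change a • (Submodule.Quotient.mk x : M ⧸ (J • (⊤ : Submodule A M))) = 0
    rw [← Submodule.Quotient.mk_smul, Submodule.Quotient.mk_eq_zero]
    exact Submodule.smul_mem_smul ha' trivial)

lemma bl_one (J : Ideal A) (M : Type u) [AddCommGroup M] [Module A M] (x : M) :
    bl J M (Submodule.Quotient.mk 1) x = Submodule.Quotient.mk x := by
  change (1 : A) • (Submodule.Quotient.mk x : M ⧸ (J • (⊤ : Submodule A M))) = _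
  rw [one_smul]

lemma mt_eq_zero (P : DRing.Cx A) (J : Ideal A) (i : ℤ) (x : P.X i) :
    mt P J i x = 0 ↔ x ∈ (J • (⊤ : Submodule A (P.X i))) := by
  constructor
  · intro h
    let g : ∀ (p q : ℤ), p + q = i → (P.X p →ₗ[A] (Bq J).X q →ₗ[A]
        (P.X i ⧸ (J • (⊤ : Submodule A (P.X i))))) := fun p q hpq =>
      if hq : q = 0 then by
        subst hq
        obtain rfl : p = i := by omega
        exact ((bl J (P.X p)).comp (bIso J).hom.hom).flip
      else 0
    have h1 := descT_tmk (K := P) (E := Bq J)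
      (M := ModuleCat.of A (P.X i ⧸ (J • (⊤ : Submodule A (P.X i))))) g i 0 (add_zero i) x (one J)
    rw [← mt_apply, h, map_zero] at h1
    have h2 : g i 0 (add_zero i) x (one J) = bl J (P.X i) ((bIso J).hom.hom (one J)) x := by
      simp only [g, dif_pos]
      rfl
    have h3 : (bIso J).hom.hom (one J) = Submodule.Quotient.mk 1 :=
      congr(($((bIso J).inv_hom_id).hom _))
    rw [h2, h3, bl_one] at h1
    exact (Submodule.Quotient.mk_eq_zero _).1 h1.symm
  · intro hx
    refine Submodule.smul_induction_on hx ?_ ?_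
    · intro r hr y _
      rw [mt_apply, map_smul, LinearMap.smul_apply, ← map_smul]
      have : r • one J = 0 := by
        change r • (bIso J).inv.hom (Submodule.Quotient.mk 1) = 0
        rw [← map_smul, ← Submodule.Quotient.mk_smul, (Submodule.Quotient.mk_eq_zero _).2, map_zero]
        exact Submodule.smul_mem_smul hr trivial
      rw [this, map_zero]
    · intro y z hy hz
      rw [map_add, hy, hz, add_zero]

/-- The map `A/J ⟶ A/J'`. -/
noncomputable def bmap {J J' : Ideal A} (h : J ≤ J') : Bq J ⟶ Bq J' :=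
  (HomologicalComplex.single (ModuleCat.{u} A) (ComplexShape.up ℤ) 0).map
    (ModuleCat.ofHom (Submodule.factor (Submodule.smul_mono_left h)))

lemma bmap_one {J J' : Ideal A} (h : J ≤ J') : ((bmap h).f 0).hom (one J) = one J' := by
  have e : (bIso J).inv ≫ (bmap h).f 0 =
      ModuleCat.ofHom (Submodule.factor (Submodule.smul_mono_left h)) ≫ (bIso J').inv := by
    refine (congrArg (fun z => (bIso J).inv ≫ z)
      (HomologicalComplex.single_map_f_self (ComplexShape.up ℤ) 0 _)).trans ?_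
    exact (bIso J).inv_hom_id_assoc _
  exact congr(($e).hom (Submodule.Quotient.mk 1))

lemma bmap_mt (P : DRing.Cx A) {J J' : Ideal A} (h : J ≤ J') (i : ℤ) (x : P.X i) :
    ((P ◁ bmap h).f i).hom (mt P J i x) = mt P J' i x := by
  rw [mt_apply, whiskerLeft_tmk, bmap_one]
  rfl

end K785.QxTen
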