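import Mathlib.LinearAlgebra.Matrix.Charpoly.LinearMap
import Mathlib.Algebra.Module.Projective
import Mathlib.RingTheory.Ideal.Quotient.Basic
import Mathlib.LinearAlgebra.Dimension.Free
import Mathlib.LinearAlgebra.FreeModule.Finite.Basic
import Mathlib.RingTheory.Ideal.Quotient.Operations
import Mathlib.Algebra.Module.Torsion.Basic

/-!
# Local splitting criterion

If `f : N → E` is a linear map from a finite module to a projective one, and every map
`N → A/m` extends over `f`, then for some `a ∉ m` the map `a • 1_N` extends over `f`.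
-/

set_option autoImplicit false
universe u v w

open Polynomial

namespace K785.SplitAlg

variable {A : Type u} [CommRing A]

/-- Maps to `N / mN` extend. -/
lemma exists_lift_quot {N : Type v} {E : Type w} [AddCommGroup N] [Module A N] [Module.Finite A N]
    [AddCommGroup E] [Module A E] (f : N →ₗ[A] E) (m : Ideal A) [hm : m.IsMaximal]
    (h : ∀ φ : N →ₗ[A] (A ⧸ m), ∃ ψ : E →ₗ[A] (A ⧸ m), ψ ∘ₗ f = φ) :
    ∃ Ψ : E →ₗ[A] (N ⧸ (m • (⊤ : Submodule A N))), Ψ ∘ₗ f = (m • (⊤ : Submodule A N)).mkQ := by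
  let := Ideal.Quotient.field m
  have : Module.Finite (A ⧸ m) (N ⧸ (m • (⊤ : Submodule A N))) :=
    Module.Finite.of_restrictScalars_finite A (A ⧸ m) _
  let b := Module.finBasis (A ⧸ m) (N ⧸ (m • (⊤ : Submodule A N)))
  choose ψ hψ using fun i => h (((b.coord i).restrictScalars A) ∘ₗ (m • (⊤ : Submodule A N)).mkQ)
  refine ⟨∑ i, ((LinearMap.toSpanSingleton (A ⧸ m) _ (b i)).restrictScalars A) ∘ₗ ψ i, ?_⟩
  ext x
  have h1 : ∀ i, ψ i (f x) = b.coord i ((m • (⊤ : Submodule A N)).mkQ x) := fun i =>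
    LinearMap.congr_fun (hψ i) x
  have h2 : (∑ i, ((LinearMap.toSpanSingleton (A ⧸ m) _ (b i)).restrictScalars A) ∘ₗ ψ i) (f x) =
      ∑ i, ψ i (f x) • b i := by
    rw [LinearMap.sum_apply]
    rfl
  change (∑ i, ((LinearMap.toSpanSingleton (A ⧸ m) _ (b i)).restrictScalars A) ∘ₗ ψ i) (f x) = _
  rw [h2]
  simp only [h1]
  exact b.sum_repr _

/-- The local splitting criterion. -/
theorem exists_smul_extend {N : Type v} {E : Type w} [AddCommGroup N] [Module A N]
    [Module.Finite A N] [AddCommGroup E] [Module A E] [Module.Projective A E] (f : N →ₗ[A] E)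
    (m : Ideal A) [hm : m.IsMaximal]
    (h : ∀ φ : N →ₗ[A] (A ⧸ m), ∃ ψ : E →ₗ[A] (A ⧸ m), ψ ∘ₗ f = φ) :
    ∃ a : A, a ∉ m ∧ ∃ r : E →ₗ[A] N, r ∘ₗ f = a • LinearMap.id := by
  obtain ⟨Ψ, hΨ⟩ := exists_lift_quot f m h
  obtain ⟨ψ, hψ⟩ := Module.projective_lifting_property (m • (⊤ : Submodule A N)).mkQ Ψ
    (Submodule.mkQ_surjective _)
  let v : Module.End A N := 1 - ψ ∘ₗ f
  have hv : LinearMap.range v ≤ m • ⊤ := by
    rintro _ ⟨x, rfl⟩
    rw [← Submodule.ker_mkQ (m • (⊤ : Submodule A N)), LinearMap.mem_ker]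
    change (m • (⊤ : Submodule A N)).mkQ (x - ψ (f x)) = 0
    have h1 : (m • (⊤ : Submodule A N)).mkQ (ψ (f x)) = Ψ (f x) := LinearMap.congr_fun hψ (f x)
    have h2 : Ψ (f x) = (m • (⊤ : Submodule A N)).mkQ x := LinearMap.congr_fun hΨ x
    rw [map_sub, h1, h2, sub_self]
  obtain ⟨p, hp, -, hc, hpv⟩ :=
    LinearMap.exists_monic_and_natDegree_eq_and_coeff_mem_pow_and_aeval_eq_zero A v m hv
  refine ⟨p.eval 1, ?_, ?_⟩
  · intro hmem
    have h1 : p.eval 1 - 1 ∈ m := by
      rw [Polynomial.eval_eq_sum_range, Finset.sum_range_succ]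
      simp only [one_pow, mul_one]
      rw [show p.coeff p.natDegree = 1 from hp, add_sub_cancel_right]
      refine sum_mem fun i hi => ?_
      have h2 := hc i
      rw [Finset.mem_range] at hi
      exact Ideal.pow_le_self (by omega) h2
    refine hm.ne_top ((Ideal.eq_top_iff_one m).2 ?_)
    have := m.sub_mem hmem h1
    simpa using this
  · obtain ⟨q, hq⟩ := Polynomial.X_sub_C_dvd_sub_C_eval (p := p) (a := 1)
    have e := congrArg (Polynomial.aeval v) hq
    rw [map_sub, hpv, Polynomial.aeval_C, map_mul, map_sub, Polynomial.aeval_X, Polynomial.aeval_C,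
      map_one, zero_sub] at e
    refine ⟨(Polynomial.aeval v q : Module.End A N) ∘ₗ ψ, ?_⟩
    have h3 : (1 - v) = ψ ∘ₗ f := sub_sub_cancel _ _
    have h4 : (Polynomial.aeval v q : Module.End A N) * (1 - v) =
        algebraMap A (Module.End A N) (p.eval 1) := by
      have h5 : (Polynomial.aeval v q : Module.End A N) * (1 - v) =
          (1 - v) * (Polynomial.aeval v q : Module.End A N) := by
        have h6 : Commute (Polynomial.aeval v q : Module.End A N) v := by
          have := (Commute.all q X).map (Polynomial.aeval (R := A) v)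
          rwa [Polynomial.aeval_X] at this
        exact ((Commute.one_right _).sub_right h6).eq
      rw [h5]
      have h7 : (1 - v) * (Polynomial.aeval v q : Module.End A N) =
          -((v - 1) * (Polynomial.aeval v q : Module.End A N)) := by
        rw [← neg_mul, neg_sub]
      rw [h7, ← e, neg_neg]
    rw [h3] at h4
    refine Eq.trans ?_ (h4.trans (Algebra.algebraMap_eq_smul_one _))
    rfl

end K785.SplitAlg
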